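import Cfsg.Agent.H242.StrP.LThree

/-!
# `PSL_n(q)`, cross characteristic: no strongly `p`-embedded subgroups (helper242, for S2120)

* `noSP_psl` : `p` odd, Sylow `p`-subgroups not cyclic, not `p = 3` and `PSL_3(4)`.
-/

set_option autoImplicit false
set_option linter.unusedSectionVars false

namespace Cfsg.Agent.H242.StrP.LinAll

open Cfsg Subgroup Cfsg.Agent.H818.StrP Cfsg.Agent.PreUniq.Cl Cfsg.Agent.H242.StrP
  Cfsg.Agent.H242.StrP.Lin Cfsg.Agent.H242.StrP.LThreeGen Cfsg.Agent.H871 Cfsg.Agent.H873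
  Cfsg.Agent.H242.StrP.LThree

section Diag

variable {ι : Type} [Fintype ι] [DecidableEq ι] {F : Type*} [Field F]

/-- diagonal matrices -/
def dg : (ι → Fˣ) →* Matrix.GeneralLinearGroup ι F where
  toFun d := mn 1 d
  map_one' := by
    apply gl_ext
    intro v
    rw [mn_mulVec, Units.val_one, Matrix.one_mulVec]
    funext i
    simp
  map_mul' d e := by
    rw [mn_mul]
    congr 1

theorem dg_mulVec (d : ι → Fˣ) (v : ι → F) :
    (Matrix.mulVec (dg d : Matrix.GeneralLinearGroup ι F).val v) = fun i => (d i : F) * v i := by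
  show Matrix.mulVec (mn 1 d : Matrix.GeneralLinearGroup ι F).val v = _
  rw [mn_mulVec]
  rfl

theorem exists_dgSL {d : ι → Fˣ} (hd : ∏ i, d i = 1) :
    ∃ A : Matrix.SpecialLinearGroup ι F, Matrix.SpecialLinearGroup.toGL A = dg d :=
  exists_toGL (mn_mem_specialLinear _ _ (by
    rw [Equiv.Perm.sign_one, ← Units.coe_prod, hd]
    simp))

/-- a central diagonal matrix is scalar -/
theorem dg_eq_of_center {A : Matrix.SpecialLinearGroup ι F} {d : ι → Fˣ} (hA : Matrix.SpecialLinearGroup.toGL A = dg d)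
    (hc : A ∈ center (Matrix.SpecialLinearGroup ι F)) (i j : ι) : d i = d j := by
  obtain ⟨c, -, h⟩ := Matrix.SpecialLinearGroup.mem_center_iff.1 hc
  have key : ∀ k, (d k : F) = c := by
    intro k
    have h1 := dg_mulVec (F := F) d (Pi.single k 1)
    have h2 : (dg d : Matrix.GeneralLinearGroup ι F).val = (A : Matrix ι ι F) := by rw [← hA]; rfl
    rw [h2, ← h, Matrix.scalar_apply] at h1
    have h3 := congrFun h1 k
    rw [Matrix.mulVec_diagonal] at h3
    simp at h3
    exact h3.symm
  exact Units.ext ((key i).trans (key j).symm)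

theorem dg_center {A : Matrix.SpecialLinearGroup ι F} (hA : Matrix.SpecialLinearGroup.toGL A = dg 1) : A = 1 := by
  apply toGL_injective
  rw [hA, map_one, map_one]

end Diag

variable {F : Type} [Field F] [Fintype F] {n r p : ℕ} {G : Type*} [Group G] [Finite G] [IsSimpleGroup G]
  [hp : Fact p.Prime] [hr : Fact r.Prime] [CharP F r]

/-- `n ≥ 4`, `F` contains a primitive `p`-th root of unity. -/
theorem noSP_of_root (hn : 4 ≤ n) (hna : ¬ IsMulCommutative G) (hpr : p ≠ r)
    (e : G ≃* Matrix.ProjectiveSpecialLinearGroup (Fin n) F) {w : Fˣ} (hwp : w ^ p = 1) (hw1 : w ≠ 1) : NoSP p G := by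
  have : Nontrivial (Fin n) := Fin.nontrivial_iff_two_le.2 (by omega)
  let i0 : Fin n := ⟨0, by omega⟩
  let i1 : Fin n := ⟨1, by omega⟩
  let i2 : Fin n := ⟨2, by omega⟩
  let i3 : Fin n := ⟨3, by omega⟩
  have h01 : i0 ≠ i1 := by simp [i0, i1]
  have h02 : i0 ≠ i2 := by simp [i0, i2]
  have h03 : i0 ≠ i3 := by simp [i0, i3]
  have h12 : i1 ≠ i2 := by simp [i1, i2]
  have h13 : i1 ≠ i3 := by simp [i1, i3]
  have h23 : i2 ≠ i3 := by simp [i2, i3]
  set d1 : Fin n → Fˣ := fun i => if i = i0 then w else if i = i1 then w⁻¹ else 1 with hd1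
  set d2 : Fin n → Fˣ := fun i => if i = i1 then w else if i = i2 then w⁻¹ else 1 with hd2
  obtain ⟨A, hA⟩ := exists_dgSL (F := F) (d := d1) (by rw [hd1, prod_two h01, mul_inv_cancel])
  obtain ⟨B, hB⟩ := exists_dgSL (F := F) (d := d2) (by rw [hd2, prod_two h12, mul_inv_cancel])
  have hpow : ∀ (C : Matrix.SpecialLinearGroup (Fin n) F) (d : Fin n → Fˣ), Matrix.SpecialLinearGroup.toGL C = dg d →
      d ^ p = 1 → C ^ p ∈ center (Matrix.SpecialLinearGroup (Fin n) F) := by
    intro C d hC hd
    have : C ^ p = 1 := by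
      apply toGL_injective
      rw [map_pow, hC, ← map_pow, hd, map_one, map_one]
    rw [this]
    exact one_mem _
  have hAB : A * B = B * A := by
    apply toGL_injective
    rw [map_mul, map_mul, hA, hB, ← map_mul, ← map_mul, mul_comm]
  refine noSP_of_pair (by omega) (by omega) hna hpr e hAB (hpow A d1 hA ?_) (hpow B d2 hB ?_) ?_ ?_
    (W := Submodule.span F {Pi.single i0 1}) ?_ ?_ ?_ ?_
  · funext i
    simp only [hd1, Pi.pow_apply, Pi.one_apply]
    split_ifs
    · exact hwp
    · rw [inv_pow, hwp, inv_one]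
    · exact one_pow p
  · funext i
    simp only [hd2, Pi.pow_apply, Pi.one_apply]
    split_ifs
    · exact hwp
    · rw [inv_pow, hwp, inv_one]
    · exact one_pow p
  · intro hc
    have h1 := dg_eq_of_center hA hc i0 i3
    simp only [hd1, if_true, if_neg h03.symm, if_neg h13.symm] at h1
    exact hw1 h1
  · intro k hc
    have h1 : Matrix.SpecialLinearGroup.toGL (A ^ k * B) = dg (d1 ^ k * d2) := by
      rw [map_mul, map_zpow, hA, hB, map_mul, map_zpow]
    have h2 := dg_eq_of_center h1 hc i2 i3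
    simp only [hd1, hd2, Pi.mul_apply, Pi.pow_apply, if_true, if_neg h02.symm, if_neg h12.symm, if_neg h03.symm,
      if_neg h13.symm, if_neg h23.symm, one_zpow, one_mul] at h2
    exact hw1 (inv_eq_one.1 h2)
  · intro h
    rw [Submodule.span_singleton_eq_bot] at h
    have := congrFun h i0
    simp at this
  · intro h
    have h1 : (Pi.single i1 1 : Fin n → F) ∈ Submodule.span F {(Pi.single i0 1 : Fin n → F)} := by
      rw [h]; exact Submodule.mem_top
    obtain ⟨a, ha⟩ := Submodule.mem_span_singleton.1 h1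
    have := congrFun ha i1
    simp [h01.symm] at this
  · intro v hv
    obtain ⟨a, rfl⟩ := Submodule.mem_span_singleton.1 hv
    rw [map_smul]
    refine Submodule.smul_mem _ _ (Submodule.mem_span_singleton.2 ⟨(w : F), ?_⟩)
    have h2 : (dg d1 : Matrix.GeneralLinearGroup (Fin n) F).val = (A : Matrix (Fin n) (Fin n) F) := by rw [← hA]; rfl
    rw [rhoL_apply, ← h2, dg_mulVec]
    funext i
    by_cases hi : i = i0
    · subst hi
      simp [hd1]
    · simp [hi]
  · intro v hv
    obtain ⟨a, rfl⟩ := Submodule.mem_span_singleton.1 hv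
    rw [map_smul]
    refine Submodule.smul_mem _ _ (Submodule.mem_span_singleton.2 ⟨1, ?_⟩)
    have h2 : (dg d2 : Matrix.GeneralLinearGroup (Fin n) F).val = (B : Matrix (Fin n) (Fin n) F) := by rw [← hB]; rfl
    rw [rhoL_apply, ← h2, dg_mulVec]
    funext i
    by_cases hi : i = i0
    · subst hi
      simp [hd2, h01, h02]
    · simp [hi]

/-- **`PSL_n(F)`.** -/
theorem noSP_psl (hp2 : p ≠ 2) (hpr : p ≠ r) (hn : 2 ≤ n) (h4 : n = 2 → 4 ≤ Fintype.card F)
    (hna : ¬ IsMulCommutative G) (e : G ≃* Matrix.ProjectiveSpecialLinearGroup (Fin n) F)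
    (hcyc : ¬ ∀ P : Sylow p G, IsCyclic ↥P) (hne : ¬ (p = 3 ∧ n = 3 ∧ Fintype.card F = 4)) : NoSP p G := by
  by_cases hZ : ∀ x ∈ center (Matrix.SpecialLinearGroup (Fin n) F), x ^ p = 1 → x = 1
  · exact noSP_of_coprime hp2 hn h4 hna hpr hcyc hZ e
  · push Not at hZ
    obtain ⟨x, hx, hxp, hx1⟩ := hZ
    obtain ⟨c, hcn, hc⟩ := Matrix.SpecialLinearGroup.mem_center_iff.1 hx
    have hn0 : Nonempty (Fin n) := ⟨⟨0, by omega⟩⟩
    rw [Fintype.card_fin] at hcn
    have hcp : c ^ p = 1 := by
      have h1 : ((x ^ p : Matrix.SpecialLinearGroup (Fin n) F) : Matrix (Fin n) (Fin n) F) = 1 := by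
        rw [hxp]; rfl
      rw [Matrix.SpecialLinearGroup.coe_pow, ← hc, ← map_pow] at h1
      have h2 := congrFun (congrFun h1 hn0.some) hn0.some
      simpa using h2
    have hc1 : c ≠ 1 := by
      rintro rfl
      apply hx1
      apply Subtype.ext
      rw [← hc, map_one]
      rfl
    have hc0 : c ≠ 0 := by
      rintro rfl
      rw [zero_pow hp.out.ne_zero] at hcp
      exact zero_ne_one hcp
    set w : Fˣ := Units.mk0 c hc0 with hw
    have hwp : w ^ p = 1 := Units.ext (by rw [Units.val_pow_eq_pow_val, hw, Units.val_mk0, hcp, Units.val_one])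
    have hw1 : w ≠ 1 := fun h => hc1 (by rw [← Units.val_mk0 hc0, ← hw, h, Units.val_one])
    have hwn : w ^ n = 1 := Units.ext (by rw [Units.val_pow_eq_pow_val, hw, Units.val_mk0, hcn, Units.val_one])
    have hord : orderOf w = p := orderOf_eq_prime hwp hw1
    have hpn : p ∣ n := by
      rw [← hord]
      exact orderOf_dvd_of_pow_eq_one hwn
    by_cases hn4 : 4 ≤ n
    · exact noSP_of_root hn4 hna hpr e hwp hw1
    · have hn3 : n = 3 := by
        have h1 := hp.out.two_le
        have h2 := Nat.le_of_dvd (by omega) hpn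
        interval_cases n
        · have : p = 2 := by omega
          exact absurd this hp2
        · rfl
      subst hn3
      have hp3 : p = 3 := (Nat.prime_dvd_prime_iff_eq hp.out Nat.prime_three).1 hpn
      subst hp3
      have h3 : (3 : F) ≠ 0 := by
        intro h
        have h1 : ((3 : ℕ) : F) = 0 := by exact_mod_cast h
        rw [CharP.cast_eq_zero_iff F r] at h1
        exact hpr ((Nat.prime_dvd_prime_iff_eq hr.out Nat.prime_three).1 h1).symm
      classical
      refine noSP_three h3 e hwp hw1 ?_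
      have h1 : 3 ∣ Fintype.card Fˣ := by
        rw [← hord]
        exact orderOf_dvd_card
      rw [Fintype.card_units] at h1
      have h2 : Fintype.card F ≠ 4 := fun h => hne ⟨rfl, rfl, h⟩
      have h5 : 1 < Fintype.card F := Fintype.one_lt_card
      omega

end Cfsg.Agent.H242.StrP.LinAll
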