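import Cfsg.Agent.H242.StrP.FCRank
import Cfsg.Agent.H163.PG.PslAut
import Cfsg.Agent.H199.PslAut
import Cfsg.Agent.CpAut.Fix
import Cfsg.Agent.S0249

/-!
# Field automorphisms of `PSL_n(q)` (helper242, for S2120)

`fieldCent_psl`.
-/

set_option autoImplicit false
set_option linter.unusedSectionVars false

namespace Cfsg.Agent.H242.StrP.FC

open Cfsg Subgroup Cfsg.Agent.H818.StrP Cfsg.Agent.H163.PG
open scoped commutatorElement

universe u v

/-- inner-diagonal automorphisms of order `p` are inner if `p` does not divide the index -/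
theorem inner_of_coprime {Y : Type u} [Group Y] [Finite Y] {D : Subgroup (MulAut Y)} {d p : ℕ}
    (hd : (Inn Y).relIndex D = d) (hp : p.Prime) (hpd : ¬ p ∣ d) {x : MulAut Y} (hx : x ∈ D) (hxp : orderOf x = p) :
    ∃ g, x = MulAut.conj g := by
  have hN : (Inn Y).Normal := innNormal Y
  have h1 := Subgroup.pow_index_mem ((Inn Y).subgroupOf D) (⟨x, hx⟩ : D)
  have h2 : ((Inn Y).subgroupOf D).index = d := hd
  rw [h2] at h1
  have h3 : x ^ d ∈ Inn Y := h1
  have h4 : (orderOf x).Coprime d := by rw [hxp]; exact (hp.coprime_iff_not_dvd).2 hpd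
  obtain ⟨m, hm⟩ := exists_pow_eq_self_of_coprime h4.symm
  have h5 : x ∈ Inn Y := by
    rw [← hm]
    exact Subgroup.pow_mem _ h3 m
  obtain ⟨g, hg⟩ := h5
  exact ⟨g, hg.symm⟩

section

variable {F : Type u} [Field F] [Fintype F] {n : ℕ}

local notation "PSLn" => Matrix.ProjectiveSpecialLinearGroup (Fin n) F

theorem simple_psl (hn : 2 ≤ n) (h4 : n = 2 → 4 ≤ Fintype.card F) : IsSimpleGroup PSLn := by
  by_cases h3 : 3 ≤ n
  · exact S0249.result n h3
  · obtain rfl : n = 2 := by omega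
    exact Matrix.ProjectiveSpecialLinearGroup.rank_two_simple (by rw [Nat.card_eq_fintype_card]; exact h4 rfl)

theorem not_comm_psl (hs : IsSimpleGroup PSLn) : ¬ IsMulCommutative PSLn :=
  CpAut.Fix.not_comm_quot (H := Matrix.SpecialLinearGroup (Fin n) F) (hs := hs)

/-- the centre of `SL_n` consists of scalar matrices -/
theorem mk_eq_one_iff (s : Matrix.SpecialLinearGroup (Fin n) F) :
    (QuotientGroup.mk' (center (Matrix.SpecialLinearGroup (Fin n) F))) s = 1 ↔
      ∃ c : F, (s : Matrix (Fin n) (Fin n) F) = c • (1 : Matrix (Fin n) (Fin n) F) := by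
  rw [QuotientGroup.mk'_apply, QuotientGroup.eq_one_iff, Matrix.SpecialLinearGroup.mem_center_iff]
  constructor
  · rintro ⟨r, -, hr⟩
    exact ⟨r, by rw [← hr, Matrix.scalar_apply, ← Matrix.smul_one_eq_diagonal]⟩
  · rintro ⟨c, hc⟩
    refine ⟨c, ?_, by rw [hc, Matrix.scalar_apply, ← Matrix.smul_one_eq_diagonal]⟩
    have h1 := s.det_coe
    rw [hc, Matrix.det_smul, Matrix.det_one, mul_one] at h1
    exact h1

/-- **Not cyclic.** -/
theorem not_cyclic_psl (hn : 2 ≤ n) {p : ℕ} [hp : Fact p.Prime] (hp2 : p ≠ 2) (hpn : p ∣ n)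
    (hpq : p ∣ Fintype.card F - 1) : ¬ ∀ P : Sylow p PSLn, IsCyclic ↥(P : Subgroup PSLn) := by
  obtain ⟨m, hm⟩ := hpn
  have hn0 : NeZero n := ⟨by omega⟩
  have hm1 : 1 ≤ m := by
    rcases Nat.eq_zero_or_pos m with h | h
    · rw [h, mul_zero] at hm; omega
    · exact h
  classical
  -- a primitive `p`-th root of unity
  obtain ⟨z, hz⟩ : ∃ z : Fˣ, orderOf z = p := by
    apply exists_prime_orderOf_dvd_card
    rwa [Fintype.card_units]
  have hz1 : ((z : Fˣ) : F) ^ p = 1 := by rw [← Units.val_pow_eq_pow_val, ← hz, pow_orderOf_eq_one, Units.val_one]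
  have hz2 : ((z : Fˣ) : F) ≠ 1 := by
    intro h
    have h1 : z = 1 := Units.ext h
    rw [h1, orderOf_one] at hz
    exact hp.out.one_lt.ne hz
  have hfin : Finite PSLn := finite_psl n
  let a : Matrix.SpecialLinearGroup (Fin n) F := ⟨dg n (z : F), det_dg hp.out hp2 ⟨m, hm⟩ hz1⟩
  let b : Matrix.SpecialLinearGroup (Fin n) F := ⟨pm F n m, det_pm hp.out hp2 hm⟩
  exact not_cyclic_of_mats (m := m) (n := n) hm1 hm hz1 hz2
    (H := Matrix.SpecialLinearGroup (Fin n) F) (G := PSLn) Matrix.SpecialLinearGroup.coeMonoidHom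
    Matrix.SpecialLinearGroup.coeMonoidHom_injective
    (QuotientGroup.mk' (center (Matrix.SpecialLinearGroup (Fin n) F))) mk_eq_one_iff (a := a) (b := b) rfl rfl

theorem inn_le_psl : Inn PSLn ≤ inndiagPSL n F := by
  rw [H199.PslAut.Inn_eq, H199.PslAut.inndiag_eq]
  rintro _ ⟨g, -, rfl⟩
  exact ⟨g, rfl⟩

theorem comm_psl (a : MulAut PSLn) (ha : a ∈ inndiagPSL n F) (b : MulAut PSLn) (hb : b ∈ inndiagPSL n F) :
    ⁅a, b⁆ ∈ Inn PSLn := by
  obtain ⟨A, rfl⟩ := H199.PslAut.mem_inndiag.1 ha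
  obtain ⟨B, rfl⟩ := H199.PslAut.mem_inndiag.1 hb
  rw [← map_commutatorElement, H199.PslAut.Inn_eq]
  refine ⟨⁅A, B⁆, ?_, rfl⟩
  have h1 : (⁅A, B⁆ : Matrix.GeneralLinearGroup (Fin n) F).det = 1 := by
    rw [map_commutatorElement, commutatorElement_eq_one_iff_mul_comm, mul_comm]
  refine ⟨⟨(⁅A, B⁆ : Matrix.GeneralLinearGroup (Fin n) F), ?_⟩, Units.ext rfl⟩
  have h2 := congrArg Units.val h1
  exact h2

/-- `PGL_n(q)` and `Inndiag` -/
theorem pgl_equiv (hn : 2 ≤ n) : Nonempty (Matrix.ProjGenLinGroup (Fin n) F ≃* ↥(inndiagPSL n F)) := by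
  have h1 : center (Matrix.GeneralLinearGroup (Fin n) F) = (H199.PslAut.Psi n F).ker := by
    ext g
    rw [MonoidHom.mem_ker, H199.PslAut.Psi_eq_one_iff hn, Matrix.GeneralLinearGroup.center_eq_range_scalar]
    constructor
    · rintro ⟨u, hu⟩
      exact ⟨u, hu.symm⟩
    · rintro ⟨u, hu⟩
      exact ⟨u, hu.symm⟩
  exact ⟨((QuotientGroup.quotientMulEquivOfEq h1).trans (QuotientGroup.quotientKerEquivRange (H199.PslAut.Psi n F))).trans
    (MulEquiv.subgroupCongr H199.PslAut.inndiag_eq.symm)⟩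

theorem card_inndiag (hn : 2 ≤ n) : Nat.card ↥(inndiagPSL n F) = Nat.gcd n (Fintype.card F - 1) * Nat.card PSLn := by
  obtain ⟨e⟩ := pgl_equiv (F := F) hn
  rw [← Nat.card_congr e.toEquiv, card_pgl hn]

theorem relIndex_psl (hn : 2 ≤ n) (hZ : center PSLn = ⊥) :
    (Inn PSLn).relIndex (inndiagPSL n F) = Nat.gcd n (Fintype.card F - 1) := by
  have hfin : Finite PSLn := finite_psl n
  have h1 := Subgroup.card_mul_index ((Inn PSLn).subgroupOf (inndiagPSL n F))
  rw [card_inndiag hn, Nat.card_congr (Subgroup.subgroupOfEquivOfLe inn_le_psl).toEquiv, card_inn hZ, mul_comm] at h1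
  exact Nat.eq_of_mul_eq_mul_right Nat.card_pos h1

/-- the primes dividing the order of the centre do not divide the characteristic -/
theorem char_not_dvd_gcd {s n q : ℕ} (hs : s.Prime) (hq1 : 1 ≤ q) (hq : s ∣ q) : ¬ s ∣ Nat.gcd n (q - 1) := by
  intro h
  have h1 := h.trans (Nat.gcd_dvd_right _ _)
  have h2 := char_not_dvd_sub hs hq1 hq (k := 1) le_rfl
  rw [pow_one] at h2
  exact h2 h1

theorem char_part_psl {s f : ℕ} (hs : s.Prime) (hf : 1 ≤ f) (hF : Fintype.card F = s ^ f) (hn : 2 ≤ n) :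
    (Nat.card PSLn).factorization s = f * (n * (n - 1) / 2) := by
  have hsq : s ∣ Fintype.card F := hF ▸ dvd_pow_self s (by omega)
  have hq1 : 1 ≤ Fintype.card F := Fintype.card_pos
  refine char_part hs hF (card_psl (F := F) hn) (char_not_dvd_gcd hs hq1 hsq) ?_
  rw [Prime.dvd_finsetProd_iff hs.prime]
  rintro ⟨i, -, hi⟩
  exact char_not_dvd_sub hs hq1 hsq (by omega) hi

/-- the `p`-parts of `|PSL_n(q₀ ^ p)|` and `|PSL_n(q₀)|` -/
theorem lift_psl {F₀ : Type v} [Field F₀] [Fintype F₀] {p : ℕ} (hp : p.Prime) (hp2 : p ≠ 2)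
    (hFF : Fintype.card F = Fintype.card F₀ ^ p) (hn : 2 ≤ n) (hpF : ¬ p ∣ Fintype.card F₀)
    (hpd : ¬ p ∣ Nat.gcd n (Fintype.card F - 1)) :
    Lift p (Nat.card PSLn) (Nat.card (Matrix.ProjectiveSpecialLinearGroup (Fin n) F₀)) := by
  have hq : 2 ≤ Fintype.card F₀ := Fintype.one_lt_card
  have hpd' : ¬ p ∣ Nat.gcd n (Fintype.card F₀ - 1) := by
    intro h
    apply hpd
    refine h.trans (Nat.gcd_dvd_gcd_of_dvd_right _ ?_)
    rw [hFF]
    simpa using Nat.sub_dvd_pow_sub_pow (Fintype.card F₀) 1 p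
  refine Lift.cancel hp hpd hpd' ?_
  rw [card_psl hn, card_psl hn, hFF]
  refine (Lift.pow_left hp (by omega) hpF _ _).mul hp (Lift.prod hp _ fun i _ => ?_)
  exact Lift.pow_sub_one hp hp2 hq (by omega)

/-- **The field automorphisms of `PSL_n(q)`** (task H9-FC-PSL of helper818). -/
theorem fieldCent_psl (hn : 2 ≤ n) (h2 : n = 2 → 4 ≤ Fintype.card F) {s : ℕ} [Fact s.Prime] [CharP F s] {p : ℕ}
    [Fact p.Prime] (hp2 : p ≠ 2) (hps : p ≠ s) : FieldCent p s PSLn ∨ (p = 3 ∧ n = 2 ∧ Fintype.card F = 8) := by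
  have hp : p.Prime := Fact.out
  have hs : s.Prime := Fact.out
  by_cases hex : p = 3 ∧ n = 2 ∧ Fintype.card F = 8
  · exact Or.inr hex
  left
  intro x hx hxi hpY hcyc
  obtain ⟨f, -, hF⟩ := FiniteField.card F s
  have hf : 1 ≤ (f : ℕ) := f.pos
  generalize (f : ℕ) = f' at hF hf
  have hsq : s ∣ Fintype.card F := hF ▸ dvd_pow_self s (by omega)
  have hfin : Finite PSLn := finite_psl n
  have hsimp : IsSimpleGroup PSLn := simple_psl hn h2
  have hna := not_comm_psl hsimp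
  have hZ : center PSLn = ⊥ := center_of_simple hna
  have hpF : ¬ p ∣ Fintype.card F := by
    rw [hF]
    intro h
    exact hps ((Nat.prime_dvd_prime_iff_eq hp hs).1 (hp.dvd_of_dvd_pow h))
  -- `p` does not divide the index of `Inn` in `Inndiag`
  have hpd : ¬ p ∣ Nat.gcd n (Fintype.card F - 1) := fun h =>
    not_cyclic_psl hn hp2 (h.trans (Nat.gcd_dvd_left _ _)) (h.trans (Nat.gcd_dvd_right _ _)) hcyc
  -- `x` is a field automorphism
  obtain ⟨σ, hσ, hσx⟩ : ∃ σ : F ≃+* F, orderOf σ = p ∧ IsConjUnder (inndiagPSL n F)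
      (ClassicalGeometry.AutPSL.Auto.lift (ClassicalGeometry.AutPSL.Auto.fld σ)) x := by
    rcases psl_types hn hp hx with h | h | ⟨h, -⟩ | ⟨h, -⟩
    · exact absurd (inner_of_coprime (relIndex_psl hn hZ) hp hpd h hx) hxi
    · exact h
    · exact absurd h hp2
    · exact absurd h hp2
  have hx' : IsFieldAutClassPSL x := by
    obtain ⟨h, -, hh⟩ := hσx
    refine ⟨h⁻¹, σ, ?_, ?_⟩
    · rintro rfl
      have : orderOf (1 : F ≃+* F) = p := hσ
      rw [orderOf_one] at this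
      exact hp.one_lt.ne this
    · rw [H966.PSLAut.std_iff, hh]
      group
  have hpf : p ∣ f' := by
    rw [← hσ, ← Lib.FieldAutCard.card_ringAut (p := s) hf hF]
    exact orderOf_dvd_natCard σ
  obtain ⟨f₀, rfl⟩ := hpf
  have hf₀ : 1 ≤ f₀ := by
    rcases Nat.eq_zero_or_pos f₀ with h | h
    · rw [h, mul_zero] at hf; omega
    · exact h
  have hdiv : p * f₀ / p = f₀ := Nat.mul_div_cancel_left _ hp.pos
  have hfin₀ : Fintype (GaloisField s f₀) := Fintype.ofFinite _
  have hcard : Fintype.card (GaloisField s f₀) = s ^ f₀ := by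
    rw [← Nat.card_eq_fintype_card]
    exact GaloisField.card s f₀ (by omega)
  obtain ⟨-, ⟨e⟩, -⟩ := S2698.result (F := F) hF hf hn h2 x hx' hp hx (GaloisField s f₀) (by rw [hdiv]; exact hcard)
  -- the small group is simple
  have hFF : Fintype.card F = Fintype.card (GaloisField s f₀) ^ p := by rw [hF, hcard, ← pow_mul, mul_comm]
  have hpF₀ : ¬ p ∣ Fintype.card (GaloisField s f₀) := by
    rw [hcard]
    intro h
    exact hps ((Nat.prime_dvd_prime_iff_eq hp hs).1 (hp.dvd_of_dvd_pow h))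
  have hL := lift_psl (n := n) (F := F) (F₀ := GaloisField s f₀) hp hp2 hFF hn hpF₀ hpd
  have h2' : n = 2 → 4 ≤ Fintype.card (GaloisField s f₀) := by
    rintro rfl
    by_contra hlt
    have hq2 : 2 ≤ Fintype.card (GaloisField s f₀) := Fintype.one_lt_card
    -- `p` divides `q₀ ^ 2 - 1`
    have h3 : p ∣ Fintype.card (GaloisField s f₀) ^ 2 - 1 := by
      rcases of_dvd_psl (F := GaloisField s f₀) le_rfl hp (hL.2.2.2 hpY).1 with h | ⟨k, h1, h3, h4⟩
      · exact absurd h hpF₀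
      · obtain rfl : k = 2 := by omega
        exact h4
    generalize Fintype.card (GaloisField s f₀) = q₀ at h3 hFF hlt hq2
    have h4 : q₀ = 2 ∨ q₀ = 3 := by omega
    rcases h4 with rfl | rfl
    · have h5 : p = 3 := (Nat.prime_dvd_prime_iff_eq hp Nat.prime_three).1 (by simpa using h3)
      subst h5
      exact hex ⟨rfl, rfl, by rw [hFF]; norm_num⟩
    · have h5 : p ∣ 2 ^ 3 := by simpa using h3
      exact hp2 ((Nat.prime_dvd_prime_iff_eq hp Nat.prime_two).1 (hp.dvd_of_dvd_pow h5))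
  have hs₀ : IsSimpleGroup (Matrix.ProjectiveSpecialLinearGroup (Fin n) (GaloisField s f₀)) := simple_psl hn h2'
  have hna₀ := not_comm_psl hs₀
  have hfin₀' : Finite (Matrix.ProjectiveSpecialLinearGroup (Fin n) (GaloisField s f₀)) := finite_psl n
  obtain ⟨e'⟩ := pgl_equiv (F := GaloisField s f₀) hn
  refine of_data hZ hs₀ hna₀ inn_le_psl comm_psl inn_le_psl (e.trans e') hL ?_ ?_ hpY
  · have hsq₀ : s ∣ Fintype.card (GaloisField s f₀) := hcard ▸ dvd_pow_self s (by omega)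
    have h5 := char_not_dvd_gcd (n := n) hs Fintype.card_pos hsq₀
    have h6 : Nat.gcd n (Fintype.card (GaloisField s f₀) - 1) ≠ 0 := fun h0 => h5 (h0 ▸ dvd_zero s)
    rw [card_inndiag hn, Nat.factorization_mul h6 Nat.card_pos.ne', Finsupp.add_apply,
      Nat.factorization_eq_zero_of_not_dvd h5, zero_add]
  · rw [char_part_psl hs hf hF hn, char_part_psl hs hf₀ hcard hn]
    ring

end

end Cfsg.Agent.H242.StrP.FC
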