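import Cfsg.Agent.H818.StrP.Opp
import Cfsg.Agent.PreUniq.FinalLie
import Cfsg.Agent.S0126

/-!
# Strongly `p`-embedded subgroups of `PSL_n(q)`, `PSU_n(q)`, cross characteristic: generalities (helper242, for S2120)

* `exists_elemAb` : a noncyclic Sylow `p`-subgroup, `p` odd, contains an elementary abelian group of order `p ^ 2`;
* `pair_elem`, `pair_card` : elementary abelian groups generated by two elements;
* `exists_normalized_lin` : a subgroup stabilizing a proper subspace normalizes a non-trivial `r`-subgroup (linear case);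
* `isCyclic_of_irreducible` : an abelian group whose preimage is abelian and irreducible is cyclic;
* `comap_comm` : the preimage of an abelian group of exponent `p` is abelian if the kernel has no elements of order `p`.
-/

set_option autoImplicit false
set_option linter.unusedSectionVars false

namespace Cfsg.Agent.H242.StrP

open Cfsg Subgroup Cfsg.Agent.H818.StrP Cfsg.Agent.PreUniq.Cl

section Pair

variable {G : Type*} [Group G] [Finite G] {p : ℕ} [hp : Fact p.Prime]

theorem exists_elemAb (hp2 : p ≠ 2) (h : ¬ ∀ P : Sylow p G, IsCyclic ↥P) :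
    ∃ E : Subgroup G, IsElementaryAbelian p E ∧ p ^ 2 ≤ Nat.card E := by
  push Not at h
  obtain ⟨P, hP⟩ := h
  obtain ⟨A, -, hA, hA2⟩ := S0126.result hp2 P.isPGroup' hP
  refine ⟨A.map (P : Subgroup G).subtype, ⟨?_, ?_⟩, ?_⟩
  · have := hA.1
    exact Subgroup.map_isMulCommutative A _
  · rintro _ ⟨x, hx, rfl⟩
    rw [← map_pow, hA.2 x hx, map_one]
  · rw [← Nat.card_congr (Subgroup.equivMapOfInjective A _ (P : Subgroup G).subtype_injective).toEquiv, hA2]

omit [Finite G] in
theorem mem_pair {x y : G} (hxy : x * y = y * x) {g : G} (hg : g ∈ closure {x, y}) :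
    ∃ i j : ℤ, g = x ^ i * y ^ j := by
  have hc : Commute x y := hxy
  induction hg using Subgroup.closure_induction with
  | mem z hz =>
    rcases hz with rfl | hz
    · exact ⟨1, 0, by simp⟩
    · rw [Set.mem_singleton_iff] at hz
      subst hz
      exact ⟨0, 1, by simp⟩
  | one => exact ⟨0, 0, by simp⟩
  | mul a b _ _ ha hb =>
    obtain ⟨i, j, rfl⟩ := ha
    obtain ⟨k, l, rfl⟩ := hb
    refine ⟨i + k, j + l, ?_⟩
    have h1 : Commute (y ^ j) (x ^ k) := (hc.symm.zpow_zpow j k)
    rw [zpow_add, zpow_add, mul_assoc, ← mul_assoc (y ^ j), h1.eq]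
    group
  | inv a _ ha =>
    obtain ⟨i, j, rfl⟩ := ha
    refine ⟨-i, -j, ?_⟩
    have h1 : Commute (y ^ j) (x ^ i) := (hc.symm.zpow_zpow j i)
    rw [← h1.eq]
    group

omit [Finite G] hp in
theorem pair_elem {x y : G} (hx : x ^ p = 1) (hy : y ^ p = 1) (hxy : x * y = y * x) :
    IsElementaryAbelian p (closure {x, y}) := by
  have hc : Commute x y := hxy
  refine ⟨⟨⟨?_⟩⟩, ?_⟩
  · rintro ⟨a, ha⟩ ⟨b, hb⟩
    apply Subtype.ext
    show a * b = b * a
    obtain ⟨i, j, rfl⟩ := mem_pair hxy ha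
    obtain ⟨k, l, rfl⟩ := mem_pair hxy hb
    exact ((((Commute.refl x).zpow_zpow i k).mul_right (hc.zpow_zpow i l)).mul_left
      ((hc.symm.zpow_zpow j k).mul_right ((Commute.refl y).zpow_zpow j l))).eq
  · intro a ha
    obtain ⟨i, j, rfl⟩ := mem_pair hxy ha
    rw [(hc.zpow_zpow i j).mul_pow]
    have h1 : (x ^ i) ^ p = 1 := by
      rw [← zpow_natCast, ← zpow_mul, mul_comm, zpow_mul, zpow_natCast, hx, one_zpow]
    have h2 : (y ^ j) ^ p = 1 := by
      rw [← zpow_natCast, ← zpow_mul, mul_comm, zpow_mul, zpow_natCast, hy, one_zpow]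
    rw [h1, h2, one_mul]

theorem pair_card {x y : G} (hx : x ^ p = 1) (hy : y ^ p = 1) (hxy : x * y = y * x) (hx1 : x ≠ 1)
    (hyx : y ∉ zpowers x) : p ^ 2 ≤ Nat.card (closure {x, y}) := by
  have hE := pair_elem hx hy hxy
  have hEp : IsPGroup p (closure {x, y}) := fun a => ⟨1, Subtype.ext (by rw [pow_one]; exact hE.2 a.1 a.2)⟩
  obtain ⟨k, hk⟩ := IsPGroup.iff_card.1 hEp
  have hxo : orderOf x = p := orderOf_eq_prime hx hx1
  have h1 : Nat.card (zpowers x) = p := by rw [Nat.card_zpowers, hxo]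
  have hle : zpowers x ≤ closure {x, y} := by
    rw [zpowers_le]
    exact subset_closure (Or.inl rfl)
  have hlt : zpowers x < closure {x, y} := by
    refine lt_of_le_of_ne hle fun h => hyx ?_
    rw [h]
    exact subset_closure (Or.inr rfl)
  have h2 : Nat.card (zpowers x) < Nat.card (closure {x, y}) := by
    refine lt_of_le_of_ne (Subgroup.card_le_of_le hle) fun h => hlt.ne ?_
    exact Subgroup.eq_of_le_of_card_ge hle h.symm.le
  rw [h1, hk] at h2
  rw [hk]
  apply Nat.pow_le_pow_right hp.out.pos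
  by_contra hlt2
  have : k = 0 ∨ k = 1 := by omega
  rcases this with rfl | rfl
  · rw [pow_zero] at h2
    exact absurd h2 (by have := hp.out.two_le; omega)
  · rw [pow_one] at h2
    exact lt_irrefl _ h2

end Pair

section Lin

variable {X G F V : Type*} [Group X] [Group G] [Field F] [AddCommGroup V] [Module F V]

/-- A subgroup stabilizing a proper subspace normalizes a non-trivial `r`-subgroup. -/
theorem exists_normalized_lin {π : X →* G} {ρ : X →* Module.End F V} (hπ : Function.Surjective π)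
    (hinj : Function.Injective ρ) (hk : ∀ x, π x = 1 → ∃ a : F, ∀ v, ρ x v = a • v)
    {r : ℕ} [Fact r.Prime] [CharP F r] {W : Submodule F V} (hW0 : W ≠ ⊥)
    (hrad : ∃ x : X, x ≠ 1 ∧ (∀ w ∈ W, ρ x w = w) ∧ ∀ v, ρ x v - v ∈ W)
    {E : Subgroup G} (hyW : ∀ y, π y ∈ E → ∀ w ∈ W, ρ y w ∈ W) :
    ∃ R : Subgroup G, IsPGroup r R ∧ R ≠ ⊥ ∧ E ≤ normalizer (R : Set G) := by
  refine ⟨(radL ρ W).map π, (isPGroup_radL hinj W).map π, ?_, ?_⟩
  · obtain ⟨x, hx1, hx⟩ := hrad
    intro h1
    have h2 : π x ∈ (radL ρ W).map π := ⟨x, hx, rfl⟩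
    rw [h1, Subgroup.mem_bot] at h2
    obtain ⟨a, ha⟩ := hk x h2
    obtain ⟨w, hw, hw0⟩ := Submodule.exists_mem_ne_zero_of_ne_bot hW0
    apply hx1
    apply hinj
    ext v
    rw [ha, map_one, Module.End.one_apply]
    have h3 := hx.1 w hw
    rw [ha] at h3
    have h4 : (a - 1) • w = 0 := by rw [sub_smul, one_smul, h3, sub_self]
    have h5 : a = 1 := by
      rcases smul_eq_zero.1 h4 with h6 | h6
      · exact sub_eq_zero.1 h6
      · exact absurd h6 hw0
    rw [h5, one_smul]
  · intro e he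
    obtain ⟨y, rfl⟩ := hπ e
    have key : ∀ y, π y ∈ E → ∀ x ∈ radL ρ W, y * x * y⁻¹ ∈ radL ρ W := by
      intro y hy x hx
      have hy' : π y⁻¹ ∈ E := by rw [map_inv]; exact E.inv_mem hy
      have h1 : ∀ u, ρ y (ρ y⁻¹ u) = u := fun u => by
        rw [← Module.End.mul_apply, ← map_mul, mul_inv_cancel, map_one, Module.End.one_apply]
      have h3 : ∀ u, ρ (y * x * y⁻¹) u = ρ y (ρ x (ρ y⁻¹ u)) := fun u => by
        rw [map_mul, map_mul, Module.End.mul_apply, Module.End.mul_apply]
      rw [mem_radL] at hx ⊢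
      refine ⟨fun w hw => ?_, fun v => ?_⟩
      · rw [h3, hx.1 _ (hyW _ hy' w hw), h1]
      · have h4 : ρ (y * x * y⁻¹) v - v = ρ y (ρ x (ρ y⁻¹ v) - ρ y⁻¹ v) := by
          rw [map_sub, h1, h3]
        rw [h4]
        exact hyW _ hy _ (hx.2 _)
    rw [Subgroup.mem_normalizer_iff]
    intro g
    constructor
    · rintro ⟨x, hx, rfl⟩
      exact ⟨y * x * y⁻¹, key y he x hx, by simp only [map_mul, map_inv]⟩
    · rintro ⟨x, hx, hxg⟩
      have he' : π y⁻¹ ∈ E := by rw [map_inv]; exact E.inv_mem he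
      refine ⟨y⁻¹ * x * y⁻¹⁻¹, key _ he' x hx, ?_⟩
      simp only [map_mul, map_inv, inv_inv, hxg]
      group

/-- The subgroup of `G` whose lifts stabilize `W`. -/
theorem stab_of_pair [Finite V] {π : X →* G} {ρ : X →* Module.End F V}
    (hk : ∀ x, π x = 1 → ∃ a : F, ∀ v, ρ x v = a • v) {W : Submodule F V} {x y : X} (hxy : π x * π y = π y * π x)
    (hx : ∀ w ∈ W, ρ x w ∈ W) (hy : ∀ w ∈ W, ρ y w ∈ W) {z : X} (hz : π z ∈ closure {π x, π y}) :
    ∀ w ∈ W, ρ z w ∈ W := by
  -- inverses
  have hinv : ∀ g : X, (∀ w ∈ W, ρ g w ∈ W) → ∀ w ∈ W, ρ g⁻¹ w ∈ W := by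
    intro g hg w hw
    let f : W → W := fun w => ⟨ρ g w, hg w w.2⟩
    have hf : Function.Injective f := by
      intro a b hab
      have h1 : ρ g a = ρ g b := congrArg Subtype.val hab
      have h2 : ρ g⁻¹ (ρ g a) = ρ g⁻¹ (ρ g b) := by rw [h1]
      rw [← Module.End.mul_apply, ← Module.End.mul_apply, ← map_mul, inv_mul_cancel, map_one, Module.End.one_apply,
        Module.End.one_apply] at h2
      exact Subtype.ext h2
    obtain ⟨u, hu⟩ := Finite.surjective_of_injective hf ⟨w, hw⟩
    have h1 : ρ g u = w := congrArg Subtype.val hu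
    rw [← h1, ← Module.End.mul_apply, ← map_mul, inv_mul_cancel, map_one, Module.End.one_apply]
    exact u.2
  have hpow : ∀ g : X, (∀ w ∈ W, ρ g w ∈ W) → ∀ n : ℕ, ∀ w ∈ W, ρ (g ^ n) w ∈ W := by
    intro g hg n
    induction n with
    | zero => intro w hw; rw [pow_zero, map_one, Module.End.one_apply]; exact hw
    | succ n ih => intro w hw; rw [pow_succ, map_mul, Module.End.mul_apply]; exact ih _ (hg w hw)
  have hzpow : ∀ g : X, (∀ w ∈ W, ρ g w ∈ W) → ∀ n : ℤ, ∀ w ∈ W, ρ (g ^ n) w ∈ W := by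
    intro g hg n
    obtain ⟨m, rfl | rfl⟩ := n.eq_nat_or_neg
    · rw [zpow_natCast]; exact hpow g hg m
    · rw [zpow_neg, zpow_natCast]; exact hinv _ (hpow g hg m)
  obtain ⟨i, j, hij⟩ := mem_pair hxy hz
  have h1 : π (z * (x ^ i * y ^ j)⁻¹) = 1 := by
    rw [map_mul, map_inv, map_mul, map_zpow, map_zpow, hij, mul_inv_cancel]
  obtain ⟨a, ha⟩ := hk _ h1
  intro w hw
  have h2 : z = z * (x ^ i * y ^ j)⁻¹ * (x ^ i * y ^ j) := by group
  rw [h2, map_mul, Module.End.mul_apply, ha, map_mul, Module.End.mul_apply]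
  exact W.smul_mem a (hzpow x hx i _ (hzpow y hy j _ hw))

/-- The preimage of an abelian group of exponent `p` is abelian if the kernel has no elements of order `p`. -/
theorem comap_comm {π : X →* G} (hk : ∀ x, π x = 1 → x ∈ center X) {p : ℕ} (hkp : ∀ x, π x = 1 → x ^ p = 1 → x = 1)
    {E : Subgroup G} (hE : IsElementaryAbelian p E) {x y : X} (hx : π x ∈ E) (hy : π y ∈ E) : x * y = y * x := by
  have hc : π x * π y = π y * π x := by
    have := hE.1
    exact congrArg Subtype.val (this.is_comm.comm (⟨π x, hx⟩ : E) ⟨π y, hy⟩)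
  set c := x * y * x⁻¹ * y⁻¹ with hcdef
  have h1 : π c = 1 := by
    rw [hcdef, map_mul, map_mul, map_mul, map_inv, map_inv, hc]
    group
  have h2 := hk c h1
  have h3 : x ^ p ∈ center X := hk _ (by rw [map_pow, hE.2 _ hx])
  have h4 : ∀ n : ℕ, x ^ n * y * (x ^ n)⁻¹ = c ^ n * y := by
    intro n
    induction n with
    | zero => simp
    | succ n ih =>
      calc x ^ (n + 1) * y * (x ^ (n + 1))⁻¹ = x * (x ^ n * y * (x ^ n)⁻¹) * x⁻¹ := by rw [pow_succ' x n]; group
        _ = x * (c ^ n * y) * x⁻¹ := by rw [ih]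
        _ = c ^ n * (x * y * x⁻¹) := by
          have : x * c ^ n = c ^ n * x := (Subgroup.mem_center_iff.1 (Subgroup.pow_mem _ h2 n) x)
          rw [← mul_assoc x, this]; group
        _ = c ^ n * (c * y) := by rw [hcdef]; group
        _ = c ^ (n + 1) * y := by rw [pow_succ]; group
  have h5 := h4 p
  have h6 : x ^ p * y * (x ^ p)⁻¹ = y := by
    rw [← Subgroup.mem_center_iff.1 h3 y, mul_inv_cancel_right]
  rw [h6] at h5
  have h7 : c ^ p = 1 := by
    have : c ^ p * y = 1 * y := by rw [one_mul]; exact h5.symm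
    exact mul_right_cancel this
  have h8 := hkp c h1 h7
  rw [hcdef] at h8
  have h9 : x * y = (x * y * x⁻¹ * y⁻¹) * (y * x) := by group
  rw [h9, h8, one_mul]

/-- An abelian group with abelian irreducible preimage is cyclic. -/
theorem isCyclic_of_irreducible [Finite V] [Nontrivial V] [Finite X] {π : X →* G} {ρ : X →* Module.End F V}
    (hπ : Function.Surjective π) (hinj : Function.Injective ρ) {E : Subgroup G}
    (hab : ∀ x y, π x ∈ E → π y ∈ E → x * y = y * x)
    (hs : ∀ W : Submodule (Alg π ρ E) V, W = ⊥ ∨ W = ⊤) : IsCyclic E := by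
  have hsimple : IsSimpleModule (Alg π ρ E) V := by
    have : IsSimpleOrder (Submodule (Alg π ρ E) V) :=
      { toNontrivial := inferInstance, eq_bot_or_eq_top := hs }
    exact ⟨⟩
  have hfin : Finite (Module.End (Alg π ρ E) V) := Finite.of_injective (fun f => (f : V → V)) DFunLike.coe_injective
  have hdom : IsDomain (Module.End (Alg π ρ E) V) := isDomain_end hsimple
  let K := Module.End (Alg π ρ E) V
  let f : ↥(E.comap π) →* K :=
    { toFun := fun x => lin π ρ (c := x.1) (by
        rw [Subgroup.mem_centralizer_iff]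
        intro y hy
        exact hab _ _ hy x.2)
      map_one' := by
        apply LinearMap.ext
        intro v
        show ρ (1 : X) v = v
        rw [map_one, Module.End.one_apply]
      map_mul' := by
        intro x y
        apply LinearMap.ext
        intro v
        show ρ ((x : X) * y) v = ρ x (ρ y v)
        rw [map_mul, Module.End.mul_apply] }
  have hf : Function.Injective f := by
    intro x y hxy
    apply Subtype.ext
    apply hinj
    ext v
    exact congrArg (fun g : K => g v) hxy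
  have hcyc : IsCyclic ↥(E.comap π) := by
    letI : Field K := (Finite.isDomain_to_isField K).toField
    exact isCyclic_of_subgroup_isDomain f hf
  let g : ↥(E.comap π) →* ↥E := π.subgroupComap E
  refine isCyclic_of_surjective g ?_
  rintro ⟨e, he⟩
  obtain ⟨x, rfl⟩ := hπ e
  exact ⟨⟨x, he⟩, rfl⟩

end Lin

end Cfsg.Agent.H242.StrP
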