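import Cfsg.Agent.H818.StrP.Row
import Cfsg.Agent.H163.PG.AutBase
import Cfsg.Agent.H242.StrP.UniCop
import Mathlib.NumberTheory.Padics.PadicVal.Basic

/-!
# Field automorphisms: abstract reduction and arithmetic

* `FC.abs` : from `C_D(x) ≃* D₀` with `Inn Y ≤ D`, `Inn Y₀ ≤ D₀` (`Y₀` simple) to the structure of the fixed points of `x`;
* `FC.conj` : the conclusion of `FieldCent` is invariant under conjugation in `Aut Y`;
* `Lift p a b` : the `p`-parts of `a = Q(q₀ ^ p)` and `b = Q(q₀)`;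
* `FC.of_data` : `FieldCent` from the isomorphism and the orders.
-/

set_option autoImplicit false

namespace Cfsg.Agent.H242.StrP.FC

open Cfsg Subgroup Cfsg.Agent.H818.StrP Cfsg.Agent.H163.PG
open Cfsg.Agent.H242.StrP
open scoped commutatorElement

universe u v

section Abs

variable {Y : Type u} [Group Y] {Y₀ : Type v} [Group Y₀]

theorem conj_fix (hZ : center Y = ⊥) {x : MulAut Y} {y : Y} : x y = y ↔ MulAut.conj y ∈ centralizer ({x} : Set (MulAut Y)) := by
  have h1 : x * MulAut.conj y * x⁻¹ = MulAut.conj (x y) := by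
    ext z
    simp [MulAut.mul_apply, MulAut.conj_apply]
  rw [mem_centralizer_singleton_iff]
  constructor
  · intro h
    rw [h] at h1
    exact ((mul_inv_eq_iff_eq_mul.1 h1)).symm ▸ rfl
  · intro h
    apply conj_injective hZ
    rw [← h1, ← h, mul_inv_cancel_right]

/-- **The abstract step.** -/
theorem abs (hZ : center Y = ⊥) (hs : IsSimpleGroup Y₀) (hna : ¬ IsMulCommutative Y₀)
    {D : Subgroup (MulAut Y)} (hD : Inn Y ≤ D) (hab : ∀ a ∈ D, ∀ b ∈ D, ⁅a, b⁆ ∈ Inn Y)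
    {D₀ : Subgroup (MulAut Y₀)} (hD₀ : Inn Y₀ ≤ D₀) {x : MulAut Y}
    (e : ↥(D ⊓ centralizer ({x} : Set (MulAut Y))) ≃* ↥D₀) :
    ∃ N : Subgroup Y, (∀ y ∈ N, x y = y) ∧ (∀ y, x y = y → y ∈ normalizer (N : Set Y)) ∧ Nonempty (↥N ≃* Y₀) ∧
      (∀ y, x y = y → y ∈ centralizer (N : Set Y) → y = 1) ∧
      (Nat.card Y₀ ∣ Nat.card {y : Y // x y = y} ∧ Nat.card {y : Y // x y = y} ∣ Nat.card ↥D₀) := by
  have hZ₀ : center Y₀ = ⊥ := center_of_simple hna
  -- the embedding of `Y₀`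
  let f : Y₀ →* MulAut Y := (D ⊓ centralizer ({x} : Set (MulAut Y))).subtype.comp
    (e.symm.toMonoidHom.comp ((MulAut.conj : Y₀ →* MulAut Y₀).codRestrict D₀ (fun y => hD₀ ⟨y, rfl⟩)))
  have hf : ∀ y : Y₀, f y = (e.symm ⟨MulAut.conj y, hD₀ ⟨y, rfl⟩⟩ : MulAut Y) := fun y => rfl
  have hfi : Function.Injective f := by
    intro a b hab
    rw [hf, hf] at hab
    have h1 := e.symm.injective (Subtype.ext hab)
    exact conj_injective hZ₀ (congrArg Subtype.val h1)
  have hfD : ∀ y, f y ∈ D := fun y => (e.symm ⟨MulAut.conj y, hD₀ ⟨y, rfl⟩⟩).2.1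
  have hfC : ∀ y, f y ∈ centralizer ({x} : Set (MulAut Y)) := fun y => (e.symm ⟨MulAut.conj y, hD₀ ⟨y, rfl⟩⟩).2.2
  have hperf : commutator Y₀ = ⊤ := by
    rcases IsSimpleGroup.eq_bot_or_eq_top_of_normal (commutator Y₀) inferInstance with h | h
    · exfalso
      apply hna
      refine ⟨⟨fun a b => ?_⟩⟩
      have h1 : ⁅a, b⁆ ∈ commutator Y₀ := commutator_mem_commutator (mem_top a) (mem_top b)
      rw [h, mem_bot] at h1
      exact commutatorElement_eq_one_iff_mul_comm.1 h1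
    · exact h
  have hfI : f.range ≤ Inn Y := by
    rw [MonoidHom.range_eq_map, ← hperf, commutator_eq_closure, MonoidHom.map_closure, closure_le]
    rintro _ ⟨_, ⟨a, b, rfl⟩, rfl⟩
    rw [map_commutatorElement]
    exact hab _ (hfD a) _ (hfD b)
  -- the subgroup
  let c : Y →* MulAut Y := MulAut.conj
  have hc : Function.Injective c := conj_injective hZ
  let N : Subgroup Y := f.range.comap c
  have hN : ∀ y, y ∈ N ↔ ∃ y₀, f y₀ = c y := fun y => Iff.rfl
  have hNfix : ∀ y ∈ N, x y = y := by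
    intro y hy
    obtain ⟨y₀, h⟩ := (hN y).1 hy
    rw [conj_fix hZ]
    show c y ∈ _
    rw [← h]
    exact hfC y₀
  -- conjugation of `f y₀` by `c y`
  have hkey : ∀ y, x y = y → ∃ d : MulAut Y₀, (∀ y₀, c y * f y₀ * (c y)⁻¹ = f (d y₀)) ∧ (d = 1 → y = 1) := by
    intro y hy
    have h1 : c y ∈ D ⊓ centralizer ({x} : Set (MulAut Y)) := ⟨hD ⟨y, rfl⟩, (conj_fix hZ).1 hy⟩
    refine ⟨(e ⟨c y, h1⟩ : MulAut Y₀), fun y₀ => ?_, fun hd => ?_⟩
    · rw [hf, hf]
      have h2 : (⟨c y, h1⟩ : ↥(D ⊓ centralizer ({x} : Set (MulAut Y)))) * e.symm ⟨MulAut.conj y₀, hD₀ ⟨y₀, rfl⟩⟩ *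
          (⟨c y, h1⟩ : ↥(D ⊓ centralizer ({x} : Set (MulAut Y))))⁻¹ =
          e.symm ⟨MulAut.conj ((e ⟨c y, h1⟩ : MulAut Y₀) y₀), hD₀ ⟨_, rfl⟩⟩ := by
        apply e.injective
        rw [map_mul, map_mul, map_inv, e.apply_symm_apply, e.apply_symm_apply]
        apply Subtype.ext
        ext z
        simp [MulAut.mul_apply, MulAut.conj_apply]
      exact congrArg Subtype.val h2
    · have h3 : e ⟨c y, h1⟩ = 1 := Subtype.ext hd
      have h4 := (map_eq_one_iff e e.injective).1 h3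
      exact (map_eq_one_iff c hc).1 (congrArg Subtype.val h4)
  have hnorm1 : ∀ y, x y = y → ∀ n ∈ N, y * n * y⁻¹ ∈ N := by
    intro y hy n hn
    obtain ⟨d, hd, -⟩ := hkey y hy
    obtain ⟨y₀, h⟩ := (hN n).1 hn
    refine (hN _).2 ⟨d y₀, ?_⟩
    rw [← hd, h, map_mul, map_mul, map_inv]
  have hinv : ∀ y, x y = y → x y⁻¹ = y⁻¹ := by
    intro y hy
    rw [map_inv, hy]
  -- the isomorphism
  let g : ↥N →* MulAut Y := c.comp N.subtype
  have hg : Function.Injective g := hc.comp N.subtype_injective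
  have hgr : g.range = f.range := by
    apply le_antisymm
    · rintro _ ⟨n, rfl⟩
      exact n.2
    · intro a ha
      obtain ⟨y, hy⟩ := hfI ha
      have hy' : c y = a := hy
      exact ⟨⟨y, by show c y ∈ f.range; rw [hy']; exact ha⟩, hy⟩
  have eN : ↥N ≃* Y₀ :=
    (MonoidHom.ofInjective hg).trans ((MulEquiv.subgroupCongr hgr).trans (MonoidHom.ofInjective hfi).symm)
  -- the fixed points as a subgroup
  let C : Subgroup Y := { carrier := {y | x y = y}, mul_mem' := fun {a b} ha hb => by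
                            show x (a * b) = a * b
                            rw [map_mul]; exact congrArg₂ _ ha hb
                          one_mem' := map_one x
                          inv_mem' := fun {a} ha => hinv a ha }
  refine ⟨N, hNfix, fun y hy => ?_, ⟨eN⟩, fun y hy hyc => ?_, ?_, ?_⟩
  · rw [mem_normalizer_iff]
    intro n
    refine ⟨hnorm1 y hy n, fun h => ?_⟩
    have h1 := hnorm1 y⁻¹ (hinv y hy) _ h
    simpa [mul_assoc] using h1
  · obtain ⟨d, hd, hd1⟩ := hkey y hy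
    apply hd1
    ext y₀
    show d y₀ = y₀
    apply hfi
    rw [← hd]
    obtain ⟨n, hn⟩ := hfI ⟨y₀, rfl⟩
    have hn' : c n = f y₀ := hn
    have hnN : n ∈ N := (hN n).2 ⟨y₀, hn'.symm⟩
    have h2 := mem_centralizer_iff.1 hyc n hnN
    rw [← hn', ← map_mul, ← h2, map_mul, mul_inv_cancel_right]
  · rw [← Nat.card_congr eN.toEquiv]
    exact (card_dvd_of_le (show N ≤ C from fun y hy => hNfix y hy) : Nat.card ↥N ∣ Nat.card ↥C)
  · rw [← Nat.card_congr e.toEquiv]
    let m : ↥C →* ↥(D ⊓ centralizer ({x} : Set (MulAut Y))) :=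
      (c.comp C.subtype).codRestrict _ (fun y => ⟨hD ⟨y, rfl⟩, (conj_fix hZ).1 y.2⟩)
    have hm : Function.Injective m := by
      intro a b h
      exact Subtype.ext (hc (congrArg Subtype.val h))
    exact (card_dvd_of_injective m hm : Nat.card ↥C ∣ _)

end Abs

/-- the `p`-parts of two numbers `a = Q(q₀ ^ p)` and `b = Q(q₀)` -/
def Lift (p a b : ℕ) : Prop :=
  a ≠ 0 ∧ b ≠ 0 ∧ b.factorization p ≤ a.factorization p ∧ (p ∣ a → p ∣ b ∧ b.factorization p < a.factorization p)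

section Lift

variable {p a b a' b' : ℕ}

theorem Lift.mul (hp : p.Prime) (h : Lift p a b) (h' : Lift p a' b') : Lift p (a * a') (b * b') := by
  obtain ⟨ha, hb, h1, h2⟩ := h
  obtain ⟨ha', hb', h1', h2'⟩ := h'
  refine ⟨mul_ne_zero ha ha', mul_ne_zero hb hb', ?_, fun h => ?_⟩
  · rw [Nat.factorization_mul ha ha', Nat.factorization_mul hb hb', Finsupp.add_apply, Finsupp.add_apply]
    exact Nat.add_le_add h1 h1'
  · rw [Nat.factorization_mul ha ha', Nat.factorization_mul hb hb', Finsupp.add_apply, Finsupp.add_apply]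
    rcases hp.dvd_mul.1 h with h | h
    · exact ⟨(h2 h).1.mul_right _, Nat.add_lt_add_of_lt_of_le (h2 h).2 h1'⟩
    · exact ⟨(h2' h).1.mul_left _, Nat.add_lt_add_of_le_of_lt h1 (h2' h).2⟩

theorem Lift.of_not_dvd (ha : a ≠ 0) (hb : b ≠ 0) (h : ¬ p ∣ a) (h' : ¬ p ∣ b) : Lift p a b :=
  ⟨ha, hb, by rw [Nat.factorization_eq_zero_of_not_dvd h']; exact Nat.zero_le _, fun h1 => absurd h1 h⟩

theorem Lift.prod (hp : p.Prime) {ι : Type*} (s : Finset ι) {f g : ι → ℕ} (h : ∀ i ∈ s, Lift p (f i) (g i)) :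
    Lift p (∏ i ∈ s, f i) (∏ i ∈ s, g i) := by
  classical
  induction s using Finset.induction_on with
  | empty => exact Lift.of_not_dvd one_ne_zero one_ne_zero (by simpa using hp.one_lt.ne') (by simpa using hp.one_lt.ne')
  | insert i s hi ih =>
    rw [Finset.prod_insert hi, Finset.prod_insert hi]
    exact (h i (Finset.mem_insert_self i s)).mul hp (ih fun j hj => h j (Finset.mem_insert_of_mem hj))

/-- cancel factors prime to `p` -/
theorem Lift.cancel (hp : p.Prime) {c d : ℕ} (hc : ¬ p ∣ c) (hd : ¬ p ∣ d) (h : Lift p (c * a) (d * b)) : Lift p a b := by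
  obtain ⟨h0, h0', h1, h2⟩ := h
  have ha := right_ne_zero_of_mul h0
  have hb := right_ne_zero_of_mul h0'
  have hc0 := left_ne_zero_of_mul h0
  have hd0 := left_ne_zero_of_mul h0'
  rw [Nat.factorization_mul hc0 ha, Nat.factorization_mul hd0 hb, Finsupp.add_apply, Finsupp.add_apply,
    Nat.factorization_eq_zero_of_not_dvd hc, Nat.factorization_eq_zero_of_not_dvd hd, zero_add, zero_add] at h1 h2
  refine ⟨ha, hb, h1, fun h => ?_⟩
  obtain ⟨h3, h4⟩ := h2 (h.mul_left c)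
  exact ⟨(hp.dvd_mul.1 h3).resolve_left hd, h4⟩

theorem dvd_sub_one_iff (hp : p.Prime) {x : ℕ} (hx : 1 ≤ x) : p ∣ x ^ p - 1 ↔ p ∣ x - 1 := by
  have : Fact p.Prime := ⟨hp⟩
  rw [← ZMod.natCast_eq_zero_iff, ← ZMod.natCast_eq_zero_iff, Nat.cast_sub hx, Nat.cast_sub (Nat.one_le_pow _ _ hx)]
  push_cast
  rw [ZMod.pow_card]

theorem dvd_add_one_iff (hp : p.Prime) {x : ℕ} : p ∣ x ^ p + 1 ↔ p ∣ x + 1 := by
  have : Fact p.Prime := ⟨hp⟩
  rw [← ZMod.natCast_eq_zero_iff, ← ZMod.natCast_eq_zero_iff]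
  push_cast
  rw [ZMod.pow_card]

theorem Lift.sub_one (hp : p.Prime) (hp2 : p ≠ 2) {x : ℕ} (hx : 2 ≤ x) : Lift p (x ^ p - 1) (x - 1) := by
  have hf : Fact p.Prime := ⟨hp⟩
  have hx1 : 1 < x ^ p := Nat.one_lt_pow hp.ne_zero (by omega)
  by_cases h : p ∣ x - 1
  · have hnx : ¬ p ∣ x := fun h' => hp.one_lt.ne' (Nat.dvd_one.1 ((Nat.dvd_sub_iff_right (by omega) h').1 h))
    have h1 := padicValNat.pow_sub_pow (hp.odd_of_ne_two hp2) (y := 1) (show 1 < x by omega) h hnx hp.ne_zero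
    rw [one_pow, padicValNat_self] at h1
    rw [← Nat.factorization_def _ hp, ← Nat.factorization_def _ hp] at h1
    exact ⟨by omega, by omega, by omega, fun _ => ⟨h, by omega⟩⟩
  · exact Lift.of_not_dvd (by omega) (by omega) (fun h' => h ((dvd_sub_one_iff hp (by omega)).1 h')) h

theorem Lift.add_one (hp : p.Prime) (hp2 : p ≠ 2) {x : ℕ} : Lift p (x ^ p + 1) (x + 1) := by
  have hf : Fact p.Prime := ⟨hp⟩
  by_cases h : p ∣ x + 1
  · have hnx : ¬ p ∣ x := fun h' => hp.one_lt.ne' (Nat.dvd_one.1 ((Nat.dvd_add_right h').1 h))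
    have h1 := padicValNat.pow_add_pow (hp.odd_of_ne_two hp2) (y := 1) h hnx (hp.odd_of_ne_two hp2)
    rw [one_pow, padicValNat_self] at h1
    rw [← Nat.factorization_def _ hp, ← Nat.factorization_def _ hp] at h1
    exact ⟨by omega, by omega, by omega, fun _ => ⟨h, by omega⟩⟩
  · exact Lift.of_not_dvd (by omega) (by omega) (fun h' => h ((dvd_add_one_iff hp).1 h')) h

theorem Lift.pow_sub_one (hp : p.Prime) (hp2 : p ≠ 2) {q k : ℕ} (hq : 2 ≤ q) (hk : 1 ≤ k) :
    Lift p ((q ^ p) ^ k - 1) (q ^ k - 1) := by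
  rw [← pow_mul, mul_comm p k, pow_mul]
  exact Lift.sub_one hp hp2 (le_trans hq (Nat.le_self_pow (by omega) q))

theorem Lift.pow_add_one (hp : p.Prime) (hp2 : p ≠ 2) {q k : ℕ} : Lift p ((q ^ p) ^ k + 1) (q ^ k + 1) := by
  rw [← pow_mul, mul_comm p k, pow_mul]
  exact Lift.add_one hp hp2

theorem Lift.pow_left {q : ℕ} (hp : p.Prime) (hq0 : q ≠ 0) (h : ¬ p ∣ q) (M N : ℕ) : Lift p ((q ^ p) ^ M) (q ^ N) :=
  Lift.of_not_dvd (by positivity) (by positivity)
    (fun h1 => h (hp.dvd_of_dvd_pow (hp.dvd_of_dvd_pow h1))) (fun h1 => h (hp.dvd_of_dvd_pow h1))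

end Lift

section CharPart

variable {s : ℕ}

/-- the characteristic part of an order -/
theorem char_part (hs : s.Prime) {c y m q f N : ℕ} (hq : q = s ^ f) (h : c * y = q ^ N * m) (hc : ¬ s ∣ c)
    (hm : ¬ s ∣ m) : y.factorization s = f * N := by
  have hc0 : c ≠ 0 := fun h0 => hc (h0 ▸ dvd_zero s)
  have hm0 : m ≠ 0 := fun h0 => hm (h0 ▸ dvd_zero s)
  have hq0 : q ^ N ≠ 0 := by
    rw [hq]
    exact pow_ne_zero _ (pow_ne_zero _ hs.ne_zero)
  have hy0 : y ≠ 0 := by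
    rintro rfl
    rw [mul_zero] at h
    exact (mul_ne_zero hq0 hm0) h.symm
  have h1 : (c * y).factorization s = (q ^ N * m).factorization s := by rw [h]
  rw [Nat.factorization_mul hc0 hy0, Nat.factorization_mul hq0 hm0, Finsupp.add_apply, Finsupp.add_apply,
    Nat.factorization_eq_zero_of_not_dvd hc, Nat.factorization_eq_zero_of_not_dvd hm, zero_add, add_zero, hq, ← pow_mul,
    hs.factorization_pow, Finsupp.single_eq_same] at h1
  exact h1

theorem char_not_dvd_sub (hs : s.Prime) {q k : ℕ} (hq1 : 1 ≤ q) (hq : s ∣ q) (hk : 1 ≤ k) : ¬ s ∣ q ^ k - 1 := by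
  intro h
  have h1 : s ∣ q ^ k := dvd_pow hq (by omega)
  exact hs.one_lt.ne' (Nat.dvd_one.1 ((Nat.dvd_sub_iff_right (Nat.one_le_pow _ _ hq1) h1).1 h))

theorem char_not_dvd_add (hs : s.Prime) {q k : ℕ} (hq : s ∣ q) (hk : 1 ≤ k) : ¬ s ∣ q ^ k + 1 := by
  intro h
  have h1 : s ∣ q ^ k := dvd_pow hq (by omega)
  exact hs.one_lt.ne' (Nat.dvd_one.1 ((Nat.dvd_add_right h1).1 h))

end CharPart

section Rank

/-- two commuting elements of order `p` modulo the centre: the Sylow `p`-subgroups of `H / Z` are not cyclic -/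
theorem not_cyclic_quot {H G : Type*} [Group H] [Group G] [Finite G] {p : ℕ} [hp : Fact p.Prime] (f : H →* G) {a b : H}
    (hab : f a * f b = f b * f a) (ha : a ^ p = 1) (hb : b ^ p = 1) (ha1 : f a ≠ 1) (hb1 : f b ∉ zpowers (f a)) :
    ¬ ∀ P : Sylow p G, IsCyclic ↥(P : Subgroup G) := by
  intro hall
  have ha' : f a ^ p = 1 := by rw [← map_pow, ha, map_one]
  have hb' : f b ^ p = 1 := by rw [← map_pow, hb, map_one]
  have hE := pair_elem ha' hb' hab
  have hc := pair_card ha' hb' hab ha1 hb1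
  have hEp : IsPGroup p (closure {f a, f b}) :=
    fun a => ⟨1, Subtype.ext (by rw [pow_one]; exact hE.2 a.1 a.2)⟩
  obtain ⟨P, hP⟩ := hEp.exists_le_sylow
  refine Uni.not_cyclic hE hc ?_
  have := hall P
  exact isCyclic_of_injective (inclusion hP) (inclusion_injective hP)

end Rank

section Data

variable {Y : Type u} [Group Y] [Finite Y] {Y₀ : Type v} [Group Y₀] [Finite Y₀]

/-- **The structure of the fixed points from the isomorphism `C_D(x) ≃* D₀` and the orders.** -/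
theorem of_data {p s : ℕ} (hZ : center Y = ⊥) (hs : IsSimpleGroup Y₀)
    (hna : ¬ IsMulCommutative Y₀) {D : Subgroup (MulAut Y)} (hD : Inn Y ≤ D) (hab : ∀ a ∈ D, ∀ b ∈ D, ⁅a, b⁆ ∈ Inn Y)
    {D₀ : Subgroup (MulAut Y₀)} (hD₀ : Inn Y₀ ≤ D₀) {x : MulAut Y}
    (e : ↥(D ⊓ centralizer ({x} : Set (MulAut Y))) ≃* ↥D₀) (hL : Lift p (Nat.card Y) (Nat.card Y₀))
    (hd : (Nat.card ↥D₀).factorization s = (Nat.card Y₀).factorization s)
    (hsp : (Nat.card Y).factorization s = p * (Nat.card Y₀).factorization s) (hpY : p ∣ Nat.card Y) :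
    ∃ N : Subgroup Y, (∀ y ∈ N, x y = y) ∧ (∀ y, x y = y → y ∈ normalizer (N : Set Y)) ∧
      IsSimpleGroup ↥N ∧ (¬ IsMulCommutative ↥N) ∧ p ∣ Nat.card ↥N ∧
      (∀ y, x y = y → y ∈ centralizer (N : Set Y) → y = 1) ∧
      (Nat.card ↥N).factorization p < (Nat.card Y).factorization p ∧
      (Nat.card Y).factorization s = p * (Nat.card {y : Y // x y = y}).factorization s := by
  obtain ⟨N, h1, h2, ⟨eN⟩, h3, h4, h5⟩ := abs hZ hs hna hD hab hD₀ e
  have hc : Nat.card ↥N = Nat.card Y₀ := Nat.card_congr eN.toEquiv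
  have hfY : Finite (MulAut Y₀) := inferInstance
  refine ⟨N, h1, h2, ?_, ?_, ?_, h3, ?_, ?_⟩
  · exact MulEquiv.isSimpleGroup eN
  · intro h
    apply hna
    refine ⟨⟨fun a b => ?_⟩⟩
    apply eN.symm.injective
    rw [map_mul, map_mul]
    exact h.is_comm.comm _ _
  · rw [hc]
    exact (hL.2.2.2 hpY).1
  · rw [hc]
    exact (hL.2.2.2 hpY).2
  · rw [hsp]
    congr 1
    have h6 : (1 : Y) ∈ {y : Y | x y = y} := map_one x
    have h7 : Nat.card {y : Y // x y = y} ≠ 0 := by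
      have : Nonempty {y : Y // x y = y} := ⟨⟨1, map_one x⟩⟩
      exact Nat.card_pos.ne'
    have h8 : Nat.card ↥D₀ ≠ 0 := Nat.card_pos.ne'
    apply le_antisymm
    · exact (Nat.factorization_le_iff_dvd Nat.card_pos.ne' h7).2 h4 s
    · rw [← hd]
      exact (Nat.factorization_le_iff_dvd h7 h8).2 h5 s

end Data

end Cfsg.Agent.H242.StrP.FC
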