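import Cfsg.Agent.H242.StrP.FCAbs
import Mathlib.LinearAlgebra.Matrix.Permutation

/-!
# `PSL_n(q)` and `PSU_n(q)`: the Sylow `p`-subgroups are not cyclic if `p` divides `|Inndiag / Inn|`

The matrices `dg n ζ` (diagonal, `ζ ^ i`) and `pm F n m` (a permutation matrix of order `p`, `n = p m`) commute up to a scalar.
-/

set_option autoImplicit false

namespace Cfsg.Agent.H242.StrP.FC

open Cfsg Matrix

universe u

section Mats

variable {F : Type u} [Field F]

/-- the diagonal matrix with entries `ζ ^ i` -/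
def dg (n : ℕ) (ζ : F) : Matrix (Fin n) (Fin n) F := diagonal fun i => ζ ^ (i : ℕ)

/-- the rotation by `m` -/
def sh (n m : ℕ) [NeZero n] : Equiv.Perm (Fin n) := Equiv.addRight (Fin.ofNat n m)

/-- the permutation matrix of the rotation by `m` -/
def pm (F : Type u) [Field F] (n m : ℕ) [NeZero n] : Matrix (Fin n) (Fin n) F := (sh n m).permMatrix F

theorem pm_apply (n m : ℕ) [NeZero n] (i j : Fin n) : pm F n m i j = if sh n m i = j then 1 else 0 := by
  simp only [pm, PEquiv.toMatrix_apply, Equiv.toPEquiv_apply, Option.mem_def, Option.some.injEq]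

theorem sh_val (n m : ℕ) [NeZero n] (i : Fin n) : ((sh n m i : Fin n) : ℕ) = ((i : ℕ) + m) % n := by
  rw [sh, Equiv.coe_addRight, Fin.val_add, Fin.val_ofNat, Nat.add_mod_mod]

theorem pm_dg (n m : ℕ) [NeZero n] {ζ : F} (hζ : ζ ^ n = 1) : pm F n m * dg n ζ = ζ ^ m • (dg n ζ * pm F n m) := by
  ext i j
  rw [dg, mul_diagonal, Matrix.smul_apply, diagonal_mul, pm_apply, smul_eq_mul]
  split_ifs with h
  · rw [← h, sh_val, one_mul, mul_one]
    have h1 : ζ ^ (((i : ℕ) + m) % n) = ζ ^ ((i : ℕ) + m) := by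
      conv_rhs => rw [← Nat.mod_add_div ((i : ℕ) + m) n, pow_add, pow_mul, hζ, one_pow, mul_one]
    rw [h1, pow_add, mul_comm]
  · rw [zero_mul, mul_zero, mul_zero]

theorem det_dg {n p : ℕ} (hp : p.Prime) (hp2 : p ≠ 2) (hpn : p ∣ n) {ζ : F} (hζ : ζ ^ p = 1) : (dg n ζ).det = 1 := by
  rw [dg, det_diagonal, Finset.prod_pow_eq_pow_sum]
  have h1 : p ∣ ∑ i : Fin n, (i : ℕ) := by
    rw [Fin.sum_univ_eq_sum_range (fun i => i) n]
    have h2 := Finset.sum_range_id_mul_two n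
    have h3 : p ∣ (∑ i ∈ Finset.range n, i) * 2 := by
      rw [h2]
      exact hpn.mul_right _
    rcases hp.dvd_mul.1 h3 with h | h
    · exact h
    · exact absurd ((Nat.prime_dvd_prime_iff_eq hp Nat.prime_two).1 h) hp2
  obtain ⟨k, hk⟩ := h1
  rw [hk, pow_mul, hζ, one_pow]

theorem dg_pow {n p : ℕ} {ζ : F} (hζ : ζ ^ p = 1) : dg n ζ ^ p = 1 := by
  rw [dg, diagonal_pow, ← diagonal_one]
  congr 1
  funext i
  rw [Pi.pow_apply, ← pow_mul, mul_comm, pow_mul, hζ, one_pow]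

theorem sh_pow_val {n m : ℕ} [NeZero n] (k : ℕ) (i : Fin n) : (((sh n m ^ k) i : Fin n) : ℕ) = ((i : ℕ) + k * m) % n := by
  induction k with
  | zero => rw [pow_zero, Equiv.Perm.one_apply, zero_mul, add_zero, Nat.mod_eq_of_lt i.2]
  | succ k ih => rw [pow_succ', Equiv.Perm.mul_apply, sh_val, ih, Nat.mod_add_mod]; congr 1; ring

theorem sh_pow {n m p : ℕ} [NeZero n] (h : n = p * m) : sh n m ^ p = 1 := by
  ext i
  rw [sh_pow_val, Equiv.Perm.one_apply, ← h, Nat.add_mod_right, Nat.mod_eq_of_lt i.2]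

theorem pm_pow {n m p : ℕ} [NeZero n] (h : n = p * m) : pm F n m ^ p = 1 := by
  have h1 : pm F n m = Matrix.permMatrixHom (R := F) (sh n m)⁻¹ := by
    show _ = ((sh n m)⁻¹)⁻¹.permMatrix F
    rw [inv_inv]; rfl
  rw [h1, ← map_pow, inv_pow, sh_pow h, inv_one, map_one]

theorem det_pm {n m p : ℕ} [NeZero n] (hp : p.Prime) (hp2 : p ≠ 2) (h : n = p * m) : (pm F n m).det = 1 := by
  rw [pm, det_permutation]
  have h1 : Equiv.Perm.sign (sh n m) ^ p = 1 := by rw [← map_pow, sh_pow h, map_one]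
  rcases Int.units_eq_one_or (Equiv.Perm.sign (sh n m)) with h2 | h2
  · rw [h2]; simp
  · exfalso
    rw [h2, (hp.odd_of_ne_two hp2).neg_one_pow] at h1
    exact absurd h1 (by decide)

theorem dg_ne_scalar {n : ℕ} (hn : 2 ≤ n) {ζ : F} (hζ : ζ ≠ 1) (c : F) : dg n ζ ≠ c • (1 : Matrix (Fin n) (Fin n) F) := by
  intro h
  have h0 := congrFun (congrFun h ⟨0, by omega⟩) ⟨0, by omega⟩
  have h1 := congrFun (congrFun h ⟨1, by omega⟩) ⟨1, by omega⟩
  rw [dg, diagonal_apply_eq, Matrix.smul_apply, one_apply_eq, smul_eq_mul, mul_one] at h0 h1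
  simp only [pow_zero, pow_one] at h0 h1
  exact hζ (h1.trans h0.symm)

theorem pm_ne_diag {n m p : ℕ} [NeZero n] (hp : 2 ≤ p) (hm : 1 ≤ m) (h : n = p * m) (d : Fin n → F) :
    pm F n m ≠ diagonal d := by
  intro h1
  have hmn : m < n := by rw [h]; nlinarith
  have h0n : 0 < n := by omega
  have h2 := congrFun (congrFun h1 ⟨0, h0n⟩) (sh n m ⟨0, h0n⟩)
  rw [pm_apply, if_pos rfl, diagonal_apply_ne] at h2
  · exact one_ne_zero h2
  · intro h3
    have h4 := congrArg Fin.val h3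
    rw [sh_val, zero_add, Nat.mod_eq_of_lt hmn] at h4
    simp only at h4
    omega

end Mats

/-- **The general statement.** `H` a group of matrices of determinant one containing the two matrices. -/
theorem not_cyclic_of_mats {F : Type u} [Field F] {n m p : ℕ} [NeZero n] [hp : Fact p.Prime]
    (hm : 1 ≤ m) (hn : n = p * m) {ζ : F} (hζ : ζ ^ p = 1) (hζ1 : ζ ≠ 1)
    {H G : Type*} [Group H] [Group G] [Finite G] (ι : H →* Matrix (Fin n) (Fin n) F) (hι : Function.Injective ι)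
    (f : H →* G) (hf : ∀ h, f h = 1 ↔ ∃ c : F, ι h = c • (1 : Matrix (Fin n) (Fin n) F))
    {a b : H} (ha : ι a = dg n ζ) (hb : ι b = pm F n m) : ¬ ∀ P : Sylow p G, IsCyclic ↥(P : Subgroup G) := by
  have hp1 := hp.out.two_le
  have hn2 : 2 ≤ n := by rw [hn]; nlinarith
  have hζn : ζ ^ n = 1 := by rw [hn, pow_mul, hζ, one_pow]
  have hinv : ∀ x : H, ι x⁻¹ * ι x = 1 := fun x => by rw [← map_mul, inv_mul_cancel, map_one]
  have hmul : ∀ x : H, ι x * ι x⁻¹ = 1 := fun x => by rw [← map_mul, mul_inv_cancel, map_one]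
  -- `f x = f y` iff `ι x = c • ι y`
  have hfeq : ∀ x y : H, (∃ c : F, ι x = c • ι y) → f x = f y := by
    rintro x y ⟨c, hc⟩
    rw [← mul_inv_eq_one, ← map_inv, ← map_mul, hf]
    exact ⟨c, by rw [map_mul, hc, smul_mul, hmul]⟩
  refine not_cyclic_quot (p := p) f (a := a) (b := b) ?_ ?_ ?_ ?_ ?_
  · rw [← map_mul, ← map_mul]
    symm
    apply hfeq
    exact ⟨ζ ^ m, by rw [map_mul, map_mul, ha, hb, pm_dg n m hζn]⟩
  · apply hι
    rw [map_pow, ha, dg_pow hζ, map_one]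
  · apply hι
    rw [map_pow, hb, pm_pow hn, map_one]
  · rw [Ne, hf, ha]
    rintro ⟨c, hc⟩
    exact dg_ne_scalar hn2 hζ1 c hc
  · intro h
    -- `f a` has finite order, so that `f b = f a ^ k` with `k : ℕ`
    obtain ⟨k, hk⟩ := (Submonoid.mem_powers_iff _ _).1 ((mem_powers_iff_mem_zpowers).2 h)
    rw [← map_pow, ← mul_inv_eq_one, ← map_inv, ← map_mul, hf] at hk
    obtain ⟨c, hc⟩ := hk
    rw [map_mul, map_pow, ha] at hc
    have h1 : dg n ζ ^ k = c • pm F n m := by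
      calc dg n ζ ^ k = dg n ζ ^ k * (ι b⁻¹ * ι b) := by rw [hinv, mul_one]
        _ = c • pm F n m := by rw [← mul_assoc, hc, smul_mul, one_mul, hb]
    have hc0 : c ≠ 0 := by
      rintro rfl
      rw [zero_smul] at h1
      have h2 : IsUnit (dg n ζ ^ k) := by
        apply IsUnit.pow
        rw [← ha]
        exact ⟨⟨ι a, ι a⁻¹, hmul a, hinv a⟩, rfl⟩
      rw [h1] at h2
      have : Nonempty (Fin n) := ⟨⟨0, by omega⟩⟩
      exact not_isUnit_zero h2
    apply pm_ne_diag hp1 hm hn (F := F) (fun i => c⁻¹ * (ζ ^ (i : ℕ)) ^ k)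
    have h2 : pm F n m = c⁻¹ • dg n ζ ^ k := by rw [h1, smul_smul, inv_mul_cancel₀ hc0, one_smul]
    rw [h2, dg, diagonal_pow]
    ext i j
    rw [Matrix.smul_apply, diagonal_apply, diagonal_apply, smul_eq_mul]
    split_ifs
    · rfl
    · rw [mul_zero]

end Cfsg.Agent.H242.StrP.FC
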