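import Cfsg.Agent.H871.MonoBasic

/-!
# Generation of `SL_3(F)` by the centralizers of the monomial elements of order 3 (helper242, for S2120)

* `tv_hom` : the commutator of two homologies, when the centre of the second one lies on the axis of the first one, is a
  transvection;
* `top_of_cent` : a subgroup of `GL_3(F)`, `|F| ≥ 7`, characteristic not 3, containing the monomial matrices of determinant 1
  and the centralizers in `SL_3(F)` of all `v ↦ (c i / c (i+1)) v (i+1)` contains `SL_3(F)`.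
-/

set_option autoImplicit false
set_option linter.unusedSectionVars false

namespace Cfsg.Agent.H242.StrP.LThreeGen

open Matrix Cfsg Cfsg.Agent.H873 Cfsg.Agent.H871

section

variable {ι : Type} [Fintype ι] [DecidableEq ι] {F : Type*} [Field F]

/-- **Commutator of two homologies.** -/
theorem tv_hom (c c' γ γ' : ι → F) (h : γ ⬝ᵥ c = 1) (h' : γ' ⬝ᵥ c' = 1) (h0 : γ ⬝ᵥ c' = 0) (δ : Fˣ) {l : F}
    (hl : l * δ = -(((δ : F) - 1) ^ 2 * (γ' ⬝ᵥ c))) (h1 : (l • γ) ⬝ᵥ c' = 0) :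
    tv c' (l • γ) h1 * (hom c' γ' h' δ * hom c γ h δ) = hom c γ h δ * hom c' γ' h' δ := by
  apply gl_ext
  intro x
  rw [Units.val_mul, Units.val_mul, Units.val_mul, ← mulVec_mulVec, ← mulVec_mulVec, ← mulVec_mulVec, tv_mulVec,
    hom_mulVec, hom_mulVec, hom_mulVec, hom_mulVec]
  funext i
  simp only [dotProduct_add, dotProduct_smul, smul_dotProduct, h, h0, Pi.add_apply, Pi.smul_apply, smul_eq_mul]
  linear_combination ((γ ⬝ᵥ x) * c' i) * hl

theorem HasTv.neg_right {M : Subgroup (GL ι F)} {a φ : ι → F} (h : HasTv M a φ) : HasTv M a (-φ) := by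
  have h3 := h.neg_left
  have h4 : -a = (-1 : F) • a := by rw [neg_one_smul]
  rw [h4, hasTv_smul_comm, neg_one_smul] at h3
  exact h3

theorem HasTv.sub_right {M : Subgroup (GL ι F)} {a φ ψ : ι → F} (h : HasTv M a φ) (h' : HasTv M a ψ) :
    HasTv M a (φ - ψ) := by
  rw [sub_eq_add_neg]
  exact h.add_right (HasTv.neg_right h')

end

variable {F : Type*} [Field F]

/-- the cyclic permutation -/
def rot : Equiv.Perm (Fin 3) := finRotate 3

/-- the monomial matrix of order 3 fixing `c` -/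
def bc (c : Fin 3 → Fˣ) : GL (Fin 3) F := mn rot fun i => c i * (c (rot i))⁻¹

theorem bc_mulVec (c : Fin 3 → Fˣ) (v : Fin 3 → F) :
    (bc c : Matrix (Fin 3) (Fin 3) F) *ᵥ v = fun i => ((c i : F) * ((c (rot i))⁻¹ : Fˣ)) * v (rot i) := by
  rw [bc, mn_mulVec]
  rfl

/-- the functional of the homology with centre `c` commuting with `bc c` -/
def gam (c : Fin 3 → Fˣ) : Fin 3 → F := fun i => (3 * (c i : F))⁻¹

theorem gam_dot (h3 : (3 : F) ≠ 0) (c : Fin 3 → Fˣ) : gam c ⬝ᵥ (fun i => (c i : F)) = 1 := by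
  have h : ∀ i, gam c i * (c i : F) = 3⁻¹ := fun i => by
    unfold gam
    have := (c i).ne_zero
    field_simp
  show ∑ i, gam c i * (c i : F) = 1
  rw [Fin.sum_univ_three, h, h, h]
  field_simp
  norm_num

theorem hom_comm_bc (h3 : (3 : F) ≠ 0) (c : Fin 3 → Fˣ) (δ : Fˣ) :
    hom (fun i => (c i : F)) (gam c) (gam_dot h3 c) δ * bc c = bc c * hom (fun i => (c i : F)) (gam c) (gam_dot h3 c) δ := by
  apply gl_ext
  intro x
  rw [Units.val_mul, Units.val_mul, ← mulVec_mulVec, ← mulVec_mulVec, hom_mulVec, hom_mulVec, bc_mulVec, bc_mulVec]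
  have h1 : gam c ⬝ᵥ (fun i => ((c i : F) * ((c (rot i))⁻¹ : Fˣ)) * x (rot i)) = gam c ⬝ᵥ x := by
    show ∑ i, gam c i * (((c i : F) * ((c (rot i))⁻¹ : Fˣ)) * x (rot i)) = ∑ i, gam c i * x i
    rw [← Equiv.sum_comp rot (fun i => gam c i * x i)]
    refine Finset.sum_congr rfl fun i _ => ?_
    unfold gam
    have h4 := (c i).ne_zero
    have h5 := (c (rot i)).ne_zero
    rw [Units.val_inv_eq_inv_val]
    field_simp
  rw [h1]
  funext i
  simp only [Pi.add_apply, Pi.smul_apply, smul_eq_mul]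
  have h5 := (c (rot i)).ne_zero
  rw [Units.val_inv_eq_inv_val]
  field_simp

/-- scalar matrices -/
theorem scal_comm (t : Fˣ) (g : GL (Fin 3) F) : mn 1 (fun _ => t) * g = g * mn 1 (fun _ => t) := by
  apply gl_ext
  intro x
  rw [Units.val_mul, Units.val_mul, ← mulVec_mulVec, ← mulVec_mulVec, mn_mulVec, mn_mulVec]
  have h1 : (fun i : Fin 3 => (t : F) * x ((1 : Equiv.Perm (Fin 3)) i)) = (t : F) • x := rfl
  rw [h1, mulVec_smul]
  rfl

theorem comm_scal {G : Type*} [Group G] {s : G} (hs : ∀ g, s * g = g * s) (A B : G) :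
    (s * A) * (s * B) * ((s * B) * (s * A))⁻¹ = A * B * (B * A)⁻¹ := by
  have e1 : (s * A) * (s * B) = A * B * (s * s) := by
    rw [hs A, hs B]
    calc A * s * (B * s) = A * (s * B) * s := by group
      _ = A * (B * s) * s := by rw [hs B]
      _ = A * B * (s * s) := by group
  have e2 : (s * B) * (s * A) = B * A * (s * s) := by
    rw [hs A, hs B]
    calc B * s * (A * s) = B * (s * A) * s := by group
      _ = B * (A * s) * s := by rw [hs A]
      _ = B * A * (s * s) := by group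
  rw [e1, e2]
  group

theorem exists_hom_mem (h3 : (3 : F) ≠ 0) {M : Subgroup (GL (Fin 3) F)}
    (hC : ∀ (c : Fin 3 → Fˣ) (g : GL (Fin 3) F), g ∈ Geo.specialLinear (Fin 3) F → g * bc c = bc c * g → g ∈ M)
    (c : Fin 3 → Fˣ) (t : Fˣ) : mn 1 (fun _ => t) * hom (fun i => (c i : F)) (gam c) (gam_dot h3 c) (t ^ 3)⁻¹ ∈ M := by
  apply hC c
  · rw [mem_specialLinear_iff, Units.val_mul, Matrix.det_mul, det_mn, det_hom]
    rw [Equiv.Perm.sign_one, Finset.prod_const, Finset.card_univ, Fintype.card_fin, Units.val_inv_eq_inv_val,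
      Units.val_pow_eq_pow_val]
    have := t.ne_zero
    simp
  · rw [mul_assoc, hom_comm_bc h3, ← mul_assoc, ← mul_assoc, scal_comm]

/-- the basic transvections -/
theorem hasTv_basic (h3 : (3 : F) ≠ 0) {M : Subgroup (GL (Fin 3) F)}
    (hC : ∀ (c : Fin 3 → Fˣ) (g : GL (Fin 3) F), g ∈ Geo.specialLinear (Fin 3) F → g * bc c = bc c * g → g ∈ M)
    (c c' : Fin 3 → Fˣ) (h0 : gam c ⬝ᵥ (fun i => (c' i : F)) = 0) (t : Fˣ) {l : F}
    (hl : l * ((t ^ 3)⁻¹ : Fˣ) = -(((((t ^ 3)⁻¹ : Fˣ) : F) - 1) ^ 2 * (gam c' ⬝ᵥ (fun i => (c i : F))))) :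
    HasTv M (fun i => (c' i : F)) (l • gam c) := by
  have h1 : (l • gam c) ⬝ᵥ (fun i => (c' i : F)) = 0 := by rw [smul_dotProduct, h0, smul_zero]
  refine (hasTv_iff _ _ _).2 ⟨h1, ?_⟩
  have h2 := tv_hom (fun i => (c i : F)) (fun i => (c' i : F)) (gam c) (gam c') (gam_dot h3 c) (gam_dot h3 c') h0
    ((t ^ 3)⁻¹) hl h1
  have hA := exists_hom_mem h3 hC c t
  have hB := exists_hom_mem h3 hC c' t
  set A := hom (fun i => (c i : F)) (gam c) (gam_dot h3 c) (t ^ 3)⁻¹ with hAdef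
  set B := hom (fun i => (c' i : F)) (gam c') (gam_dot h3 c') (t ^ 3)⁻¹ with hBdef
  set s : GL (Fin 3) F := mn 1 (fun _ => t) with hs
  have h4 : tv (fun i => (c' i : F)) (l • gam c) h1 = A * B * (B * A)⁻¹ := by
    rw [← h2]; group
  have h5 : A * B * (B * A)⁻¹ = (s * A) * (s * B) * ((s * B) * (s * A))⁻¹ :=
    (comm_scal (scal_comm t) A B).symm
  rw [h4, h5]
  exact M.mul_mem (M.mul_mem hA hB) (M.inv_mem (M.mul_mem hB hA))

/-- transvections with centre `(1, 1, w)` -/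
theorem hasTv_pair (h3 : (3 : F) ≠ 0) {M : Subgroup (GL (Fin 3) F)}
    (hC : ∀ (c : Fin 3 → Fˣ) (g : GL (Fin 3) F), g ∈ Geo.specialLinear (Fin 3) F → g * bc c = bc c * g → g ∈ M)
    (t w x y : Fˣ) (hxy : (x : F) + y + 1 = 0) {K : F}
    (hK : K * 9 * ((t ^ 3)⁻¹ : Fˣ) * (x * y) = ((((t ^ 3)⁻¹ : Fˣ) : F) - 1) ^ 2 * ((x : F) ^ 2 + x + 1)) :
    HasTv M ![1, 1, (w : F)] (K • ![1, (x : F), (y : F) / w]) ∧
      HasTv M ![1, 1, (w : F)] (K • ![(x : F), 1, (y : F) / w]) := by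
  have hx := x.ne_zero
  have hy := y.ne_zero
  have hw := w.ne_zero
  have ht := ((t ^ 3)⁻¹ : Fˣ).ne_zero
  have hc' : (fun i => ((![1, 1, w] : Fin 3 → Fˣ) i : F)) = ![1, 1, (w : F)] := by
    funext i; fin_cases i <;> rfl
  constructor
  · have h := hasTv_basic h3 hC ![1, x⁻¹, w * y⁻¹] ![1, 1, w] (by
      show ∑ i, gam ![1, x⁻¹, w * y⁻¹] i * ((![1, 1, w] : Fin 3 → Fˣ) i : F) = 0
      rw [Fin.sum_univ_three]
      simp [gam]
      field_simp
      linear_combination hxy) t (l := 3 * K) (by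
      have e : gam ![1, 1, w] ⬝ᵥ (fun i => ((![1, x⁻¹, w * y⁻¹] : Fin 3 → Fˣ) i : F)) * (3 * (x * y)) =
          -((x : F) ^ 2 + x + 1) := by
        show (∑ i, gam ![1, 1, w] i * ((![1, x⁻¹, w * y⁻¹] : Fin 3 → Fˣ) i : F)) * (3 * (x * y)) = _
        rw [Fin.sum_univ_three]
        simp [gam]
        field_simp
        linear_combination (1 + (x : F)) * hxy
      have hne : (3 * ((x : F) * y)) ≠ 0 := mul_ne_zero h3 (mul_ne_zero hx hy)
      apply mul_right_cancel₀ hne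
      linear_combination hK + (((((t ^ 3)⁻¹ : Fˣ) : F) - 1) ^ 2) * e)
    rw [hc'] at h
    convert h using 1
    funext i
    fin_cases i <;> simp [gam] <;> field_simp
  · have h := hasTv_basic h3 hC ![x⁻¹, 1, w * y⁻¹] ![1, 1, w] (by
      show ∑ i, gam ![x⁻¹, 1, w * y⁻¹] i * ((![1, 1, w] : Fin 3 → Fˣ) i : F) = 0
      rw [Fin.sum_univ_three]
      simp [gam]
      field_simp
      linear_combination hxy) t (l := 3 * K) (by
      have e : gam ![1, 1, w] ⬝ᵥ (fun i => ((![x⁻¹, 1, w * y⁻¹] : Fin 3 → Fˣ) i : F)) * (3 * (x * y)) =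
          -((x : F) ^ 2 + x + 1) := by
        show (∑ i, gam ![1, 1, w] i * ((![x⁻¹, 1, w * y⁻¹] : Fin 3 → Fˣ) i : F)) * (3 * (x * y)) = _
        rw [Fin.sum_univ_three]
        simp [gam]
        field_simp
        linear_combination (1 + (x : F)) * hxy
      have hne : (3 * ((x : F) * y)) ≠ 0 := mul_ne_zero h3 (mul_ne_zero hx hy)
      apply mul_right_cancel₀ hne
      linear_combination hK + (((((t ^ 3)⁻¹ : Fˣ) : F) - 1) ^ 2) * e)
    rw [hc'] at h
    convert h using 1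
    funext i
    fin_cases i <;> simp [gam] <;> field_simp

/-- **Generation.** -/
theorem top_of_cent (h3 : (3 : F) ≠ 0) {M : Subgroup (GL (Fin 3) F)} (hM : HasMon M)
    (hC : ∀ (c : Fin 3 → Fˣ) (g : GL (Fin 3) F), g ∈ Geo.specialLinear (Fin 3) F → g * bc c = bc c * g → g ∈ M)
    {t x : F} (ht0 : t ≠ 0) (ht : t ^ 3 ≠ 1) (hx0 : x ≠ 0) (hx1 : x ≠ 1) (hx2 : x + 1 ≠ 0) (hx3 : x ^ 2 + x + 1 ≠ 0) :
    Geo.specialLinear (Fin 3) F ≤ M := by
  set T : Fˣ := Units.mk0 t ht0 with hT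
  set X : Fˣ := Units.mk0 x hx0 with hX
  set Y : Fˣ := Units.mk0 (-(x + 1)) (neg_ne_zero.2 hx2) with hY
  have hXY : (X : F) + Y + 1 = 0 := by
    rw [hX, hY, Units.val_mk0, Units.val_mk0]; ring
  have hδ : (((T ^ 3)⁻¹ : Fˣ) : F) - 1 ≠ 0 := by
    rw [Units.val_inv_eq_inv_val, Units.val_pow_eq_pow_val, hT, Units.val_mk0]
    intro h
    rw [sub_eq_zero] at h
    exact ht (inv_eq_one.1 h)
  have hδ0 : (((T ^ 3)⁻¹ : Fˣ) : F) ≠ 0 := Units.ne_zero _
  obtain ⟨K, hK⟩ : ∃ K : F, K * 9 * ((T ^ 3)⁻¹ : Fˣ) * (X * Y) =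
      ((((T ^ 3)⁻¹ : Fˣ) : F) - 1) ^ 2 * ((X : F) ^ 2 + X + 1) := by
    have h9 : (9 : F) ≠ 0 := by
      have : (9 : F) = 3 * 3 := by norm_num
      rw [this]
      exact mul_ne_zero h3 h3
    refine ⟨((((T ^ 3)⁻¹ : Fˣ) : F) - 1) ^ 2 * ((X : F) ^ 2 + X + 1) / (9 * ((T ^ 3)⁻¹ : Fˣ) * (X * Y)), ?_⟩
    have hne : (9 * (((T ^ 3)⁻¹ : Fˣ) : F) * (X * Y)) ≠ 0 :=
      mul_ne_zero (mul_ne_zero h9 hδ0) (mul_ne_zero X.ne_zero Y.ne_zero)
    rw [mul_assoc, mul_assoc, ← mul_assoc (9 : F), div_mul_cancel₀ _ hne]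
  have hK0 : K ≠ 0 := by
    rintro rfl
    rw [zero_mul, zero_mul, zero_mul] at hK
    exact mul_ne_zero (pow_ne_zero 2 hδ) hx3 hK.symm
  -- centre `(1, 1, w)`, axis `(1, -1, 0)`
  set N : F := K * (1 - x) with hN
  have hN0 : N ≠ 0 := mul_ne_zero hK0 (sub_ne_zero.2 (Ne.symm hx1))
  have hA : ∀ w : Fˣ, HasTv M ![1, 1, (w : F)] (N • ![1, -1, 0]) := by
    intro w
    obtain ⟨h1, h2⟩ := hasTv_pair h3 hC T w X Y hXY hK
    convert HasTv.sub_right h1 h2 using 1
    funext i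
    fin_cases i
    · simp [hX, hN]; ring
    · simp [hX, hN]; ring
    · simp
  -- centre `e_2`
  have ht1 : t ≠ 1 := by
    rintro rfl
    exact ht (one_pow 3)
  have hB : HasTv M ![0, 0, 1] (((1 - t) * N) • ![1, -1, 0]) := by
    have h1 := (hA 1).sub_left (hA T)
    have e : ![1, 1, ((1 : Fˣ) : F)] - ![1, 1, (T : F)] = (1 - t) • ![0, 0, 1] := by
      funext i
      fin_cases i <;> simp [hT]
    rw [e, hasTv_smul_comm, smul_smul] at h1
    exact h1
  have hB0 : (1 - t) * N ≠ 0 := mul_ne_zero (sub_ne_zero.2 (Ne.symm ht1)) hN0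
  -- conjugation by a diagonal matrix
  have hD := hasTv_mn hM hB 1 ![T, (T ^ 2)⁻¹, T] (by
    rw [Fin.prod_univ_three, sgn_one, one_mul]
    simp only [Matrix.cons_val_zero, Matrix.cons_val_one, Matrix.cons_val_two, Matrix.head_cons, Matrix.tail_cons,
      Matrix.cons_val]
    rw [mul_right_comm, ← pow_two, mul_inv_cancel])
  have hD' : HasTv M ![0, 0, 1] (((1 - t) * N) • ![1, -t ^ 3, 0]) := by
    have e : (fun i => ((![T, (T ^ 2)⁻¹, T] : Fin 3 → Fˣ) i : F) * (![0, 0, 1] : Fin 3 → F) ((1 : Equiv.Perm (Fin 3)) i))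
        = t • ![0, 0, 1] := by
      funext i
      fin_cases i <;> simp [hT]
    rw [e, hasTv_smul_comm] at hD
    convert hD using 1
    funext i
    fin_cases i
    · simp [hT]; field_simp
    · simp [hT]; ring
    · simp
  have hE := HasTv.sub_right hB hD'
  refine top_of_root hM (by simp) (i := 2) (j := 1) (by decide) (c := ((1 - t) * N) * (t ^ 3 - 1)) ?_ ?_
  · exact mul_ne_zero hB0 (sub_ne_zero.2 ht)
  · convert hE using 1
    · funext i
      fin_cases i <;> simp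
    · funext i
      fin_cases i
      · simp
      · simp; ring
      · simp

end Cfsg.Agent.H242.StrP.LThreeGen
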