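import Cfsg.Agent.H242.StrP.Base

/-!
# No strongly `p`-embedded subgroups in `PSL_n(q)`, cross characteristic, the quick cases (helper242, for S2120)

* `noSP_of_stable` : a noncyclic elementary abelian `p`-group stabilizing a proper subspace;
* `noSP_of_pair` : the same for two matrices;
* `noSP_of_coprime` : `p` does not divide the order of the centre of `SL_n(q)`.
-/

set_option autoImplicit false
set_option linter.unusedSectionVars false

namespace Cfsg.Agent.H242.StrP.Lin

open Cfsg Subgroup Cfsg.Agent.H818.StrP Cfsg.Agent.H818.StrP.Opp Cfsg.Agent.PreUniq.Cl Cfsg.Agent.H242.StrP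

variable {F : Type} [Field F] [Fintype F] {n r p : ℕ} {G : Type*} [Group G] [Finite G] [IsSimpleGroup G]
  [hp : Fact p.Prime] [hr : Fact r.Prime] [CharP F r]

omit [Fintype F] [Finite G] [IsSimpleGroup G] [CharP F r] hp hr in
theorem ker_scalar (e : G ≃* Matrix.ProjectiveSpecialLinearGroup (Fin n) F) (x : Matrix.SpecialLinearGroup (Fin n) F)
    (hx : projC e x = 1) : ∃ a : F, ∀ v, rhoL n F x v = a • v := by
  obtain ⟨c, hc, h⟩ := Matrix.SpecialLinearGroup.mem_center_iff.1 (mem_center_of_projC hx)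
  refine ⟨c, fun v => ?_⟩
  rw [rhoL_apply, ← h, Matrix.scalar_apply]
  funext i
  rw [Matrix.mulVec_diagonal]
  rfl

omit [Fintype F] [Finite G] [IsSimpleGroup G] [CharP F r] hp hr in
theorem projC_eq_one_iff (e : G ≃* Matrix.ProjectiveSpecialLinearGroup (Fin n) F)
    {x : Matrix.SpecialLinearGroup (Fin n) F} : projC e x = 1 ↔ x ∈ center (Matrix.SpecialLinearGroup (Fin n) F) := by
  refine ⟨mem_center_of_projC, fun h => ?_⟩
  have h1 : QuotientGroup.mk' (center (Matrix.SpecialLinearGroup (Fin n) F)) x = 1 :=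
    (QuotientGroup.eq_one_iff x).2 h
  show e.symm (QuotientGroup.mk' _ x) = 1
  rw [h1, map_one]

omit [CharP F r] hp hr in
theorem exists_ne_comm (hna : ¬ IsMulCommutative G) : ∃ a b : G, a * b ≠ b * a := by
  by_contra h
  push Not at h
  exact hna ⟨⟨fun a b => h a b⟩⟩

/-- **The quick case.** -/
theorem noSP_of_stable (hn : 2 ≤ n) (h4 : n = 2 → 4 ≤ Fintype.card F) (hna : ¬ IsMulCommutative G)
    (hpr : p ≠ r) (e : G ≃* Matrix.ProjectiveSpecialLinearGroup (Fin n) F) {E : Subgroup G}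
    (hE : IsElementaryAbelian p E) (hE2 : p ^ 2 ≤ Nat.card E) {W : Submodule F (Fin n → F)} (hW0 : W ≠ ⊥) (hW1 : W ≠ ⊤)
    (hyW : ∀ y, projC e y ∈ E → ∀ w ∈ W, rhoL n F y w ∈ W) : NoSP p G := by
  have hfilt : KFacts.RgdFilt.HasFilt r G :=
    KFacts.RgdLieCharP.hasFilt_of_lie (Or.inl ⟨F, inferInstance, inferInstance, inferInstance, n, hn, h4, ⟨e⟩⟩)
  obtain ⟨R, hR, hR1, hER⟩ := exists_normalized_lin (r := r) (projC_surjective e) rhoL_injective (ker_scalar e) hW0
    (exists_transv hW0 hW1) hyW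
  exact noSP_of_local hfilt (exists_ne_comm hna) hpr hR hR1 hE hE2 hER

/-- the quick case for two matrices -/
theorem noSP_of_pair (hn : 2 ≤ n) (h4 : n = 2 → 4 ≤ Fintype.card F) (hna : ¬ IsMulCommutative G)
    (hpr : p ≠ r) (e : G ≃* Matrix.ProjectiveSpecialLinearGroup (Fin n) F)
    {x y : Matrix.SpecialLinearGroup (Fin n) F} (hxy : x * y = y * x)
    (hx : x ^ p ∈ center (Matrix.SpecialLinearGroup (Fin n) F)) (hy : y ^ p ∈ center (Matrix.SpecialLinearGroup (Fin n) F))
    (hx1 : x ∉ center (Matrix.SpecialLinearGroup (Fin n) F))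
    (hyx : ∀ i : ℤ, x ^ i * y ∉ center (Matrix.SpecialLinearGroup (Fin n) F))
    {W : Submodule F (Fin n → F)} (hW0 : W ≠ ⊥) (hW1 : W ≠ ⊤)
    (hxW : ∀ w ∈ W, rhoL n F x w ∈ W) (hyW : ∀ w ∈ W, rhoL n F y w ∈ W) : NoSP p G := by
  have h1 : projC e x ^ p = 1 := by rw [← map_pow]; exact (projC_eq_one_iff e).2 hx
  have h2 : projC e y ^ p = 1 := by rw [← map_pow]; exact (projC_eq_one_iff e).2 hy
  have h3 : projC e x * projC e y = projC e y * projC e x := by rw [← map_mul, ← map_mul, hxy]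
  have h5 : projC e x ≠ 1 := fun h => hx1 ((projC_eq_one_iff e).1 h)
  have h6 : projC e y ∉ zpowers (projC e x) := by
    rintro ⟨i, hi⟩
    apply hyx (-i)
    rw [← projC_eq_one_iff e, map_mul, map_zpow, ← hi]
    show projC e x ^ (-i) * projC e x ^ i = 1
    rw [zpow_neg, inv_mul_cancel]
  exact noSP_of_stable hn h4 hna hpr e (pair_elem h1 h2 h3) (pair_card h1 h2 h3 h5 h6) hW0 hW1
    (fun z hz => stab_of_pair (ker_scalar e) h3 hxW hyW hz)

/-- **`p` prime to the order of the centre.** -/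
theorem noSP_of_coprime (hp2 : p ≠ 2) (hn : 2 ≤ n) (h4 : n = 2 → 4 ≤ Fintype.card F) (hna : ¬ IsMulCommutative G)
    (hpr : p ≠ r) (hcyc : ¬ ∀ P : Sylow p G, IsCyclic ↥P)
    (hZ : ∀ x ∈ center (Matrix.SpecialLinearGroup (Fin n) F), x ^ p = 1 → x = 1)
    (e : G ≃* Matrix.ProjectiveSpecialLinearGroup (Fin n) F) : NoSP p G := by
  obtain ⟨E, hE, hE2⟩ := exists_elemAb hp2 hcyc
  have hne : Nonempty (Fin n) := ⟨⟨0, by omega⟩⟩
  by_cases hs : ∀ W : Submodule (Alg (projC e) (rhoL n F) E) (Fin n → F), W = ⊥ ∨ W = ⊤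
  · exfalso
    have hcE : IsCyclic E := isCyclic_of_irreducible (projC_surjective e) rhoL_injective
      (fun x y hx hy => comap_comm (fun x hx => (projC_eq_one_iff e).1 hx)
        (fun x hx hxp => hZ x ((projC_eq_one_iff e).1 hx) hxp) hE hx hy) hs
    have h1 : Nat.card E ∣ p := by
      obtain ⟨g, hg⟩ := IsCyclic.exists_generator (α := E)
      rw [← orderOf_eq_card_of_forall_mem_zpowers hg, orderOf_dvd_iff_pow_eq_one]
      exact Subtype.ext (hE.2 g.1 g.2)
    have h2 := Nat.le_of_dvd hp.out.pos h1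
    have h3 := hp.out.two_le
    nlinarith
  · push Not at hs
    obtain ⟨W, hW0, hW1⟩ := hs
    let W' : Submodule F (Fin n → F) :=
      { carrier := W
        add_mem' := W.add_mem
        zero_mem' := W.zero_mem
        smul_mem' := fun a x hx => Submodule.smul_of_tower_mem W a hx }
    refine noSP_of_stable hn h4 hna hpr e hE hE2 (W := W') ?_ ?_ ?_
    · intro h1
      apply hW0
      rw [eq_bot_iff]
      intro v hv
      have : v ∈ W' := hv
      rw [h1] at this
      exact this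
    · intro h1
      apply hW1
      rw [eq_top_iff]
      intro v _
      have : v ∈ W' := by rw [h1]; exact Submodule.mem_top
      exact this
    · intro y hy w hw
      rw [← elt_smul (projC e) (rhoL n F) hy]
      exact W.smul_mem _ hw

end Cfsg.Agent.H242.StrP.Lin
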